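/-
Matrices over the field with two elements as lists of binary columns, for kernel computations in type D₄.
-/
import Mathlib
import Cfsg.Agent.Lib.Chev.Twist.D4

set_option autoImplicit false

namespace CfsgLib.Chev.TwD4.Bin

open Cfsg.Lie Matrix

/-- The roots used. -/
def xroots : List ℕ := [18, 5, 14, 9, 13, 10, 12, 11, 22, 23]

/-- The columns of the root elements. -/
def xtab : ℕ → List ℕ
  | 5 => [1, 514, 4, 8, 16, 32, 64, 128, 256, 512, 1056, 2112, 4224, 8448, 16384, 32768, 65536, 131072, 262144, 524288, 1048576, 2097152, 4194817, 8650752, 17301504, 34603008, 69206016, 134217728]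
  | 9 => [8193, 2, 8196, 8200, 16, 48, 64, 128, 256, 768, 1024, 2048, 4096, 8192, 18432, 36864, 65536, 131072, 270338, 589824, 1179648, 2097152, 4194304, 12582912, 16777216, 33554432, 67108864, 201326592]
  | 10 => [1, 16386, 4, 8, 16, 32, 64, 160, 320, 512, 1024, 2048, 5120, 10240, 16384, 32768, 65536, 147460, 262144, 524288, 1310720, 2621440, 4194304, 8388608, 16777216, 41943040, 83886080, 134217728]
  | 11 => [1, 32770, 4, 8, 16, 32, 96, 128, 384, 512, 1024, 3072, 4096, 12288, 16384, 32768, 98312, 131072, 262144, 786432, 1048576, 3145728, 4194304, 8388608, 25165824, 33554432, 100663296, 134217728]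
  | 12 => [1, 65538, 4, 8, 16, 96, 64, 384, 256, 512, 3072, 2048, 12288, 8192, 16384, 98312, 65536, 131072, 786432, 524288, 3145728, 2097152, 4194304, 25165824, 16777216, 100663296, 67108864, 134217728]
  | 13 => [1, 131074, 4, 8, 16, 160, 320, 128, 256, 512, 5120, 10240, 4096, 8192, 147460, 32768, 65536, 131072, 1310720, 2621440, 1048576, 2097152, 4194304, 41943040, 83886080, 33554432, 67108864, 134217728]
  | 14 => [262145, 2, 262148, 262152, 48, 32, 64, 128, 768, 512, 1024, 18432, 36864, 270338, 16384, 32768, 589824, 1179648, 262144, 524288, 1048576, 2097152, 12582912, 8388608, 16777216, 33554432, 201326592, 134217728]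
  | 18 => [1, 4194306, 4, 8, 16, 1056, 2112, 4224, 8448, 4194817, 1024, 2048, 4096, 8192, 16384, 32768, 65536, 131072, 8650752, 17301504, 34603008, 69206016, 4194304, 8388608, 16777216, 33554432, 67108864, 134217728]
  | 22 => [67108865, 67108866, 67108868, 67108872, 8208, 67108911, 65600, 131200, 256, 2097664, 4195328, 2048, 4096, 8192, 16793600, 33587200, 65536, 131072, 134479872, 524288, 1048576, 2097152, 4194304, 8388608, 16777216, 33554432, 67108864, 134217728]
  | 23 => [1, 134217730, 4, 8, 134217757, 262176, 524352, 1048704, 2097408, 512, 8389632, 16779264, 33558528, 67117056, 16384, 32768, 65536, 131072, 262144, 524288, 1048576, 2097152, 4194304, 8388608, 16777216, 33554432, 67108864, 134217728]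
  | _ => []

/-- A bit as a scalar. -/
def bz (b : Bool) : ZMod 2 := if b then 1 else 0

/-- Apply a matrix given by its columns to a vector. -/
def ap : List ℕ → ℕ → ℕ
  | [], _ => 0
  | a :: A, n => (if n % 2 = 1 then a else 0) ^^^ ap A (n / 2)

/-- The product of two matrices given by columns. -/
def mulC (A B : List ℕ) : List ℕ := B.map (ap A)

/-- The identity. -/
def oneC : List ℕ := (List.range 28).map (2 ^ ·)

/-- The product of a list of matrices. -/
def prodC : List (List ℕ) → List ℕ
  | [] => oneC
  | A :: L => mulC A (prodC L)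

/-- The numbering of the coordinates. -/
def eB : Fin 28 ≃ chevD4.Idx := (finSumFinEquiv (m := 4) (n := 24)).symm

/-- A matrix is given by a list of columns. -/
def Enc (M : Matrix chevD4.Idx chevD4.Idx (ZMod 2)) (A : List ℕ) : Prop :=
  A.length = 28 ∧ ∀ i j : Fin 28, M (eB i) (eB j) = bz ((A.getD j.val 0).testBit i.val)

theorem bz_xor (a b : Bool) : bz (a != b) = bz a + bz b := by
  cases a <;> cases b <;> decide

theorem ap_spec : ∀ (A : List ℕ) (n i : ℕ), bz ((ap A n).testBit i) =
    ∑ k ∈ Finset.range A.length, bz ((A.getD k 0).testBit i) * bz (n.testBit k) := by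
  intro A
  induction A with
  | nil => intro n i; simp [ap, bz]
  | cons a A ih =>
    intro n i
    rw [ap, Nat.testBit_xor, bz_xor, ih, List.length_cons, Finset.sum_range_succ', add_comm]
    congr 1
    · simp [Nat.testBit_div_two]
    · rcases Nat.mod_two_eq_zero_or_one n with h | h <;> simp [h, bz, Nat.testBit_zero]

theorem enc_mul {M N : Matrix chevD4.Idx chevD4.Idx (ZMod 2)} {A B : List ℕ} (hA : Enc M A)
    (hB : Enc N B) : Enc (M * N) (mulC A B) := by
  refine ⟨by simp [mulC, hB.1], fun i j => ?_⟩
  have hj : j.val < B.length := by rw [hB.1]; exact j.isLt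
  rw [Matrix.mul_apply, mulC, List.getD_eq_getElem _ _ (by simpa using hj), List.getElem_map, ap_spec,
    hA.1, Finset.sum_range (fun k => bz ((A.getD k 0).testBit i.val) * bz ((B[j.val]).testBit k)),
    ← eB.sum_comp]
  refine Finset.sum_congr rfl fun k _ => ?_
  rw [hA.2, hB.2, List.getD_eq_getElem _ _ hj]

theorem enc_one : Enc 1 oneC := by
  refine ⟨by simp [oneC], fun i j => ?_⟩
  rw [oneC, List.getD_eq_getElem _ _ (by simp [j.isLt]), List.getElem_map, List.getElem_range,
    Nat.testBit_two_pow, Matrix.one_apply]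
  by_cases h : i = j
  · simp [h, bz]
  · simp [h, bz, Fin.val_ne_of_ne h, Ne.symm (Fin.val_ne_of_ne h)]

theorem enc_inj {M N : Matrix chevD4.Idx chevD4.Idx (ZMod 2)} {A : List ℕ} (hM : Enc M A)
    (hN : Enc N A) : M = N := by
  ext a b
  obtain ⟨i, rfl⟩ := eB.surjective a
  obtain ⟨j, rfl⟩ := eB.surjective b
  rw [hM.2, hN.2]

/-- A vector given by a number. -/
def vz (n : ℕ) (x : chevD4.Idx) : ZMod 2 := bz (n.testBit (eB.symm x).val)

theorem enc_mulVec {M : Matrix chevD4.Idx chevD4.Idx (ZMod 2)} {A : List ℕ} (hA : Enc M A) (n : ℕ) :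
    M *ᵥ vz n = vz (ap A n) := by
  funext x
  obtain ⟨i, rfl⟩ := eB.surjective x
  rw [Matrix.mulVec, dotProduct, vz, Equiv.symm_apply_apply, ap_spec, hA.1,
    Finset.sum_range (fun k => bz ((A.getD k 0).testBit i.val) * bz (n.testBit k)), ← eB.sum_comp]
  refine Finset.sum_congr rfl fun k _ => ?_
  rw [hA.2, vz, Equiv.symm_apply_apply]

/-- The entry check of a root element. -/
def okX (r : Fin chevD4.nroots) : Bool :=
  (xtab r.val).length == 28 && (List.finRange 28).all fun i => (List.finRange 28).all fun j =>
    decide (chevD4.xMat (ZMod 2) r 1 (eB i) (eB j) = bz (((xtab r.val).getD j.val 0).testBit i.val))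

theorem xroots_lt : ∀ r ∈ xroots, r < chevD4.nroots := by decide +kernel

theorem okX_all : (List.finRange chevD4.nroots).all (fun r => !xroots.contains r.val || okX r) = true := by
  decide +kernel

/-- The element of a list of roots, all with parameter one. -/
noncomputable def rootsU (L : List ℕ) : GL chevD4.Idx (ZMod 2) := wU chevD4 (L.map fun r => (r, 1))

/-- The columns of a list of roots. -/
def rootsC (L : List ℕ) : List ℕ := prodC (L.map xtab)

theorem rootsU_enc : ∀ (L : List ℕ), (∀ r ∈ L, r ∈ xroots) →
    Enc (rootsU L : GL chevD4.Idx (ZMod 2)) (rootsC L) := by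
  intro L
  induction L with
  | nil => intro _; simpa [rootsU, rootsC, prodC, wU] using enc_one
  | cons r L ih =>
    intro h
    have hr := h r List.mem_cons_self
    have hlt := xroots_lt r hr
    have h1 := List.all_eq_true.1 okX_all ⟨r, hlt⟩ (List.mem_finRange _)
    simp only [List.contains_eq_mem, hr, decide_true, Bool.not_true, Bool.false_or, okX, Bool.and_eq_true,
      beq_iff_eq, List.all_eq_true, decide_eq_true_eq] at h1
    have hx : Enc (xU chevD4 r (1 : ZMod 2) : GL chevD4.Idx (ZMod 2)) (xtab r) := by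
      rw [DataD4.facts.xU_val hlt, ChevalleyDatum.x, dif_pos hlt]
      exact ⟨h1.1, fun i j => h1.2 i (List.mem_finRange _) j (List.mem_finRange _)⟩
    have e : rootsU (r :: L) = xU chevD4 r 1 * rootsU L := by simp [rootsU, wU]
    rw [e, Units.val_mul]
    exact enc_mul hx (ih fun s hs => h s (List.mem_cons_of_mem _ hs))

end CfsgLib.Chev.TwD4.Bin
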