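/-
The embedding of the reductive part attached to the long simple root of ³D₄.
-/
import Mathlib
import Cfsg.Agent.Lib.Chev.Twist.D4Main
import Cfsg.Agent.Lib.Chev.SL2

set_option autoImplicit false

namespace CfsgLib.Chev.TwD4.Torus

open Cfsg.Lie
open scoped MatrixGroups

universe v

section SL2

variable {F : Type v} [Field F]

/-- A lower unitriangular matrix. -/
def loM (t : F) : SL(2, F) := ⟨!![1, 0; t, 1], by simp [Matrix.det_fin_two]⟩

theorem wM_eq : (wM : SL(2, F)) = upM 1 * loM (-1) * upM 1 :=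
  Subtype.ext (by simp only [Matrix.SpecialLinearGroup.coe_mul]; simp [wM, upM, loM])

/-- Conjugation by a diagonal matrix, as a function. -/
def cdF (β : Fˣ) (g : SL(2, F)) : SL(2, F) :=
  ⟨!![g 0 0, g 0 1 * ((β⁻¹ : Fˣ) : F); g 1 0 * (β : F), g 1 1], by
    rw [Matrix.det_fin_two_of]
    have := sl2_det g
    rw [Units.val_inv_eq_inv_val]
    field_simp
    linear_combination this⟩

theorem cdF_val (β : Fˣ) (g : SL(2, F)) : (cdF β g : Matrix (Fin 2) (Fin 2) F) =
    !![g 0 0, g 0 1 * ((β⁻¹ : Fˣ) : F); g 1 0 * (β : F), g 1 1] := rfl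

/-- Conjugation by a diagonal matrix. -/
def cdH (β : Fˣ) : SL(2, F) →* SL(2, F) where
  toFun := cdF β
  map_one' := Subtype.ext (by rw [cdF_val]; simp [Matrix.one_fin_two])
  map_mul' g h := Subtype.ext (by
    simp only [Matrix.SpecialLinearGroup.coe_mul, cdF_val, Units.val_inv_eq_inv_val]
    ext i j
    fin_cases i <;> fin_cases j <;> simp [Matrix.mul_apply, Fin.sum_univ_two] <;> field_simp)

theorem cdH_val (β : Fˣ) (g : SL(2, F)) : (cdH β g : Matrix (Fin 2) (Fin 2) F) =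
    !![g 0 0, g 0 1 * ((β⁻¹ : Fˣ) : F); g 1 0 * (β : F), g 1 1] := rfl

end SL2

variable {K : Type v} [Field K] [Fintype K] {q : ℕ} (C : Ctx K q)

/-- The fixed field. -/
abbrev Fq : Subfield K := C.f.eqLocusField (RingHom.id K)

theorem mem_Fq {t : K} : t ∈ Fq C ↔ t ^ q = t := by
  show C.f t = RingHom.id K t ↔ _
  rw [C.hf]
  rfl

theorem card_Fq [Fintype (Fq C)] : Fintype.card (Fq C) = q := by
  classical
  have hq := C.q_gt
  have h1 : Nat.card (powMonoidHom (q - 1) : Kˣ →* Kˣ).ker = q - 1 := by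
    rw [IsCyclic.card_powMonoidHom_ker, Nat.card_units, Nat.card_eq_fintype_card, C.card]
    refine Nat.gcd_eq_right ?_
    simpa using Nat.sub_dvd_pow_sub_pow q 1 3
  have h2 : Nat.card (Fq C)ˣ = Nat.card (powMonoidHom (q - 1) : Kˣ →* Kˣ).ker := by
    refine Nat.card_congr
      { toFun := fun x => ⟨Units.map (Fq C).subtype.toMonoidHom x, ?_⟩
        invFun := fun x => ⟨⟨(x.1 : K), ?_⟩, ⟨((x.1⁻¹ : Kˣ) : K), ?_⟩, Subtype.ext (by simp), Subtype.ext (by simp)⟩
        left_inv := fun x => Units.ext (Subtype.ext rfl)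
        right_inv := fun x => Subtype.ext (Units.ext rfl) }
    · rw [MonoidHom.mem_ker, powMonoidHom_apply]
      refine Units.ext ?_
      have h := (mem_Fq C).1 (x : Fq C).2
      rw [← pow_sub_one_mul (by omega : q ≠ 0), mul_eq_right₀ (by simpa using x.ne_zero)] at h
      rw [Units.val_pow_eq_pow_val]
      exact h
    all_goals
      refine (mem_Fq C).2 ?_
      have h := x.2
      rw [MonoidHom.mem_ker, powMonoidHom_apply] at h
      rw [← Units.val_pow_eq_pow_val, ← pow_sub_one_mul (by omega : q ≠ 0)]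
      simp [inv_pow, h]
  rw [h1, Nat.card_units, Nat.card_eq_fintype_card] at h2
  have := Fintype.one_lt_card (α := Fq C)
  omega

/-- The norm to the fixed field. -/
noncomputable def nrm : Kˣ →* Kˣ where
  toFun a := a * C.fu a * C.fu (C.fu a)
  map_one' := by simp
  map_mul' a b := by simp only [map_mul]; ac_rfl

theorem nrm_fix (a : Kˣ) : C.fu (nrm C a) = nrm C a := by
  show C.fu (a * C.fu a * C.fu (C.fu a)) = a * C.fu a * C.fu (C.fu a)
  rw [map_mul, map_mul, C.fu_three]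
  ac_rfl

theorem fu_eq_pow (a : Kˣ) : C.fu a = a ^ q := Units.ext (by
  rw [C.fu_val, Units.val_pow_eq_pow_val])

theorem nrm_eq_pow (a : Kˣ) : nrm C a = a ^ (q ^ 2 + q + 1) := by
  show a * C.fu a * C.fu (C.fu a) = _
  rw [fu_eq_pow, fu_eq_pow, ← pow_mul, ← pow_succ', ← pow_add]
  congr 1
  ring

/-- The pairs. -/
def pairGrp : Subgroup (Kˣ × GL (Fin 2) (Fq C)) where
  carrier := {p | nrm C p.1 = Units.map (Fq C).subtype.toMonoidHom (Matrix.GeneralLinearGroup.det p.2)}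
  one_mem' := by simp
  mul_mem' := fun {a b} ha hb => by
    simp only [Set.mem_setOf_eq, Prod.fst_mul, Prod.snd_mul, map_mul] at ha hb ⊢
    rw [ha, hb]
  inv_mem' := fun {a} ha => by
    simp only [Set.mem_setOf_eq, Prod.fst_inv, Prod.snd_inv, map_inv] at ha ⊢
    rw [ha]

theorem mem_pairGrp {p : Kˣ × GL (Fin 2) (Fq C)} : p ∈ pairGrp C ↔
    nrm C p.1 = Units.map (Fq C).subtype.toMonoidHom (Matrix.GeneralLinearGroup.det p.2) := Iff.rfl

/-- The matrix of determinant one of a pair. -/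
noncomputable def sPart (p : pairGrp C) : SL(2, K) :=
  ⟨!![((p.1.2 : Matrix (Fin 2) (Fin 2) (Fq C)) 0 0 : K), ((p.1.2 : Matrix (Fin 2) (Fin 2) (Fq C)) 0 1 : K);
      (((nrm C p.1.1)⁻¹ : Kˣ) : K) * ((p.1.2 : Matrix (Fin 2) (Fin 2) (Fq C)) 1 0 : K),
      (((nrm C p.1.1)⁻¹ : Kˣ) : K) * ((p.1.2 : Matrix (Fin 2) (Fin 2) (Fq C)) 1 1 : K)], by
    have h : ((nrm C p.1.1 : Kˣ) : K) =
        (((p.1.2 : Matrix (Fin 2) (Fin 2) (Fq C)) 0 0 : Fq C) : K) *
          (((p.1.2 : Matrix (Fin 2) (Fin 2) (Fq C)) 1 1 : Fq C) : K) -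
        (((p.1.2 : Matrix (Fin 2) (Fin 2) (Fq C)) 0 1 : Fq C) : K) *
          (((p.1.2 : Matrix (Fin 2) (Fin 2) (Fq C)) 1 0 : Fq C) : K) := by
      have := congrArg Units.val p.2
      simp only [Units.coe_map, RingHom.toMonoidHom_eq_coe, MonoidHom.coe_coe,
        Matrix.GeneralLinearGroup.val_det_apply, Matrix.det_fin_two] at this
      simpa using this
    rw [Matrix.det_fin_two_of]
    have hne : ((nrm C p.1.1 : Kˣ) : K) ≠ 0 := Units.ne_zero _
    rw [Units.val_inv_eq_inv_val]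
    field_simp
    rw [h]⟩

/-- The torus part. -/
noncomputable def tor (a : Kˣ) : GL chevD4.Idx K := hT chevD4 (C.vec a 1)

theorem p2_lt : d4p2 < chevD4.nroots := by decide +kernel

theorem cartan_p2 : chevD4.cartan 0 d4p2 = -1 ∧ chevD4.cartan 1 d4p2 = 2 ∧
    chevD4.cartan 2 d4p2 = -1 ∧ chevD4.cartan 3 d4p2 = -1 ∧
    chevD4.cartan 0 d4m2 = 1 ∧ chevD4.cartan 1 d4m2 = -2 ∧
    chevD4.cartan 2 d4m2 = 1 ∧ chevD4.cartan 3 d4m2 = 1 ∧ chevD4.neg d4p2 = d4m2 ∧
    d4m2 < chevD4.nroots ∧ chevD4.simple 1 = d4p2 := by decide +kernel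

theorem chi_p2 (a b : Kˣ) :
    (∏ i ∈ Finset.range chevD4.rank, C.vec a b i ^ chevD4.cartan i d4p2) = b * b * (nrm C a)⁻¹ := by
  obtain ⟨a0, a1, a2, a3, -⟩ := cartan_p2
  rw [show chevD4.rank = 4 from tables.2.1]
  simp only [Finset.prod_range_succ, Finset.prod_range_zero, one_mul, a0, a1, a2, a3, zpow_neg,
    zpow_one, zpow_two, Ctx.vec]
  show _ = b * b * (a * C.fu a * C.fu (C.fu a))⁻¹
  simp only [mul_inv]
  ac_rfl

theorem chi_m2 (a b : Kˣ) :
    (∏ i ∈ Finset.range chevD4.rank, C.vec a b i ^ chevD4.cartan i d4m2) = (b * b)⁻¹ * nrm C a := by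
  obtain ⟨-, -, -, -, a0, a1, a2, a3, -⟩ := cartan_p2
  rw [show chevD4.rank = 4 from tables.2.1]
  simp only [Finset.prod_range_succ, Finset.prod_range_zero, one_mul, a0, a1, a2, a3, zpow_neg,
    zpow_one, zpow_two, Ctx.vec]
  show _ = (b * b)⁻¹ * (a * C.fu a * C.fu (C.fu a))
  simp only [mul_inv]
  ac_rfl

theorem exists_phi (K : Type v) [Field K] : ∃ φ : SL(2, K) →* GL chevD4.Idx K,
    (∀ t : K, φ (upM t) = xU chevD4 d4p2 t) ∧ ∀ t : K, φ (loM t) = xU chevD4 d4m2 t := by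
  have hF := DataD4.facts
  obtain ⟨φ, -, hv⟩ := hF.exists_sl2Hom (F := K) p2_lt
  obtain ⟨-, -, -, -, -, -, -, -, hneg, hm, -⟩ := cartan_p2
  refine ⟨φ, fun t => Units.ext ?_, fun t => Units.ext ?_⟩
  · rw [(hv (upM t) t).1 rfl, hF.xU_val p2_lt]
  · rw [(hv (loM t) t).2 rfl, hneg, hF.xU_val hm]

variable (φ : SL(2, K) →* GL chevD4.Idx K)
  (hφ : (∀ t : K, φ (upM t) = xU chevD4 d4p2 t) ∧ ∀ t : K, φ (loM t) = xU chevD4 d4m2 t)

/-- The embedding as a function. -/
noncomputable def psi (p : pairGrp C) : GL chevD4.Idx K := tor C p.1.1 * φ (sPart C p)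

include hφ

theorem phi_wM : φ wM = nU chevD4 d4p2 1 := by
  rw [wM_eq, map_mul, map_mul, hφ.1, hφ.2, nU, cartan_p2.2.2.2.2.2.2.2.2.1, inv_one]

theorem phi_diag (b : Kˣ) (g : SL(2, K)) (hg : (g : Matrix (Fin 2) (Fin 2) K) = !![(b : K), 0; 0, ((b⁻¹ : Kˣ) : K)]) :
    φ g = hT chevD4 (C.vec 1 b) := by
  have hF := DataD4.facts
  have e : g = (upM (b : K) * loM (-(b : K)⁻¹) * upM (b : K)) * (upM (-1) * loM 1 * upM (-1)) := by
    refine Subtype.ext ?_
    rw [hg]
    simp only [Matrix.SpecialLinearGroup.coe_mul]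
    simp [upM, loM, Units.val_inv_eq_inv_val]
  obtain ⟨-, -, -, -, -, -, -, -, hneg, -, hs⟩ := cartan_p2
  rw [e, map_mul, map_mul, map_mul, map_mul, map_mul, hφ.1, hφ.2, hφ.1, hφ.2]
  have e2 : hU chevD4 d4p2 (b : K) = hT chevD4 (C.vec 1 b) := by
    rw [← hs, hF.hU_single (i := 1) (by rw [tables.2.1]; norm_num)]
    refine hF.hT_congr fun i hi => ?_
    have hi4 : i < 4 := hi
    interval_cases i <;> simp [Ctx.vec]
  rw [← e2, hU, nU, nU, hneg, inv_neg, inv_one, neg_neg]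

theorem tor_conj (a : Kˣ) (g : SL(2, K)) :
    φ g * tor C a = tor C a * φ (cdH (nrm C a)⁻¹ g) := by
  have hF := DataD4.facts
  let S : Submonoid SL(2, K) :=
    { carrier := {g | φ g * tor C a = tor C a * φ (cdH (nrm C a)⁻¹ g)}
      one_mem' := by simp
      mul_mem' := fun {x y} hx hy => by
        simp only [Set.mem_setOf_eq, map_mul] at hx hy ⊢
        rw [mul_assoc, hy, ← mul_assoc, hx, mul_assoc] }
  have hup : ∀ t, upM t ∈ S := fun t => by
    show φ (upM t) * tor C a = tor C a * φ (cdH (nrm C a)⁻¹ (upM t))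
    have e : cdH (nrm C a)⁻¹ (upM t) = upM (((nrm C a : Kˣ) : K) * t) :=
      Subtype.ext (by rw [cdH_val]; simp [upM, mul_comm])
    rw [e, hφ.1, hφ.1, tor]
    have h := hF.hT_conj_xU (C.vec a 1) p2_lt (((nrm C a : Kˣ) : K) * t)
    rw [chi_p2, one_mul, one_mul, ← mul_assoc, ← Units.val_mul, inv_mul_cancel, Units.val_one, one_mul] at h
    exact (mul_inv_eq_iff_eq_mul.1 h).symm
  have hlo : ∀ t, loM t ∈ S := fun t => by
    show φ (loM t) * tor C a = tor C a * φ (cdH (nrm C a)⁻¹ (loM t))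
    have e : cdH (nrm C a)⁻¹ (loM t) = loM ((((nrm C a)⁻¹ : Kˣ) : K) * t) :=
      Subtype.ext (by rw [cdH_val]; simp [loM, mul_comm])
    rw [e, hφ.2, hφ.2, tor]
    have h := hF.hT_conj_xU (C.vec a 1) cartan_p2.2.2.2.2.2.2.2.2.2.1 ((((nrm C a)⁻¹ : Kˣ) : K) * t)
    rw [chi_m2, one_mul, inv_one, one_mul, ← mul_assoc, ← Units.val_mul, mul_inv_cancel, Units.val_one,
      one_mul] at h
    exact (mul_inv_eq_iff_eq_mul.1 h).symm
  have hle : Submonoid.closure ({wM} ∪ Set.range (upM : K → SL(2, K))) ≤ S := by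
    refine Submonoid.closure_le.2 ?_
    rintro x (rfl | ⟨t, rfl⟩)
    · rw [wM_eq]
      exact S.mul_mem (S.mul_mem (hup _) (hlo _)) (hup _)
    · exact hup t
  exact hle (sl2_gen (hF.rankOne (F := K) p2_lt) g)

theorem psi_mul (p p' : pairGrp C) : psi C φ (p * p') = psi C φ p * psi C φ p' := by
  have e1 : tor C (p * p').1.1 = tor C p.1.1 * tor C p'.1.1 := by
    rw [tor, tor, tor, ← DataD4.facts.hT_mul]
    refine DataD4.facts.hT_congr fun i hi => ?_
    have hi4 : i < 4 := hi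
    interval_cases i <;> simp [Ctx.vec]
  have e2 : sPart C (p * p') = cdH (nrm C p'.1.1)⁻¹ (sPart C p) * sPart C p' := by
    refine Subtype.ext ?_
    simp only [Matrix.SpecialLinearGroup.coe_mul, cdH_val]
    simp only [sPart, Subgroup.coe_mul, Prod.fst_mul, Prod.snd_mul, map_mul, Units.val_mul]
    ext i j
    fin_cases i <;> fin_cases j <;>
      simp [Matrix.mul_apply, Fin.sum_univ_two, Units.val_inv_eq_inv_val] <;> field_simp <;> ring
  show tor C (p * p').1.1 * φ (sPart C (p * p')) =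
    tor C p.1.1 * φ (sPart C p) * (tor C p'.1.1 * φ (sPart C p'))
  rw [e1, e2, map_mul]
  calc tor C p.1.1 * tor C p'.1.1 * (φ (cdH (nrm C p'.1.1)⁻¹ (sPart C p)) * φ (sPart C p'))
      = tor C p.1.1 * (tor C p'.1.1 * φ (cdH (nrm C p'.1.1)⁻¹ (sPart C p))) * φ (sPart C p') := by group
    _ = _ := by rw [← tor_conj C φ hφ]; group

/-- The embedding. -/
noncomputable def psiHom : pairGrp C →* GL chevD4.Idx K := MonoidHom.mk' (psi C φ) (psi_mul C φ hφ)

theorem nU_not_borel : nU chevD4 d4p2 (1 : K) ∉ chevD4.borelSubgroup K := by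
  intro hb
  have hF := DataD4.facts
  obtain ⟨-, -, -, -, -, -, -, -, hneg, hm, -⟩ := cartan_p2
  have h := hF.nU_conj_self (F := K) p2_lt 1
  have hx : xU chevD4 d4p2 (1 : K) ∈ chevD4.borelSubgroup K :=
    hF.pos_le_borel (xU_mem_rootClosure (P := (chevD4.nroots / 2 ≤ ·)) p2_lt (by decide +kernel) 1)
  have h1 : xU chevD4 (chevD4.neg d4p2) (-1 : K) ∈ chevD4.borelSubgroup K ⊓ chevD4.negUnipotent K := by
    refine ⟨?_, ?_⟩
    · rw [← h]
      exact Subgroup.mul_mem _ (Subgroup.mul_mem _ hb hx) (Subgroup.inv_mem _ hb)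
    · rw [hF.negUnipotent_eq]
      exact xU_mem_rootClosure (hF.neg_lt p2_lt) (by decide +kernel) _
  rw [hF.borel_inf_neg, Subgroup.mem_bot] at h1
  exact neg_ne_zero.2 one_ne_zero (hF.xU_eq_one (hF.neg_lt p2_lt) h1)

include C in
theorem diag_of_phi_mem (g : SL(2, K)) (hg : φ g ∈ chevD4.diagonalSubgroup K) : g 0 1 = 0 ∧ g 1 0 = 0 := by
  have hF := DataD4.facts
  have hup : ∀ t : K, φ (upM t) ∈ chevD4.borelSubgroup K := fun t => by
    rw [hφ.1]
    exact hF.pos_le_borel (xU_mem_rootClosure (P := (chevD4.nroots / 2 ≤ ·)) p2_lt (by decide +kernel) t)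
  have hdg : ∀ (b : Kˣ) (x : SL(2, K)), (x : Matrix (Fin 2) (Fin 2) K) = !![(b : K), 0; 0, ((b⁻¹ : Kˣ) : K)] →
      φ x ∈ chevD4.borelSubgroup K := fun b x hx => by
    rw [phi_diag C φ hφ b x hx]
    exact hF.diagonal_le_borel (hF.mem_diagonal_iff.2 ⟨_, rfl⟩)
  have hdet := sl2_det g
  by_cases hc : g 1 0 = 0
  · rw [hc, mul_zero, sub_zero] at hdet
    have ha : g 0 0 ≠ 0 := fun h => by simp [h] at hdet
    let b : Kˣ := Units.mk0 _ ha
    let d : SL(2, K) := ⟨!![(b : K), 0; 0, ((b⁻¹ : Kˣ) : K)], by simp [Matrix.det_fin_two]⟩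
    have e : g = d * upM (g 0 1 / g 0 0) := by
      refine Subtype.ext ?_
      ext i j
      fin_cases i <;> fin_cases j <;>
        simp only [Matrix.SpecialLinearGroup.coe_mul] <;>
        simp [d, b, upM,  Matrix.mul_apply, Fin.sum_univ_two, hc, ha]
      · field_simp
      · field_simp
        linear_combination hdet
    rw [e, map_mul, phi_diag C φ hφ b d rfl, hφ.1] at hg
    have h1 : xU chevD4 d4p2 (g 0 1 / g 0 0) ∈
        rootClosure chevD4 K (chevD4.nroots / 2 ≤ ·) ⊓ chevD4.diagonalSubgroup K := by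
      refine ⟨xU_mem_rootClosure p2_lt (by decide +kernel) _, ?_⟩
      have := mul_mem (inv_mem (hF.mem_diagonal_iff.2 ⟨C.vec 1 b, rfl⟩ :
        hT chevD4 (C.vec 1 b) ∈ chevD4.diagonalSubgroup K)) hg
      rwa [inv_mul_cancel_left] at this
    rw [hF.pos_inf_diagonal, Subgroup.mem_bot] at h1
    exact ⟨by simpa [ha] using hF.xU_eq_one p2_lt h1, hc⟩
  · exfalso
    let s : Kˣ := -(Units.mk0 _ hc)⁻¹
    let d : SL(2, K) := ⟨!![(s : K), 0; 0, ((s⁻¹ : Kˣ) : K)], by simp [Matrix.det_fin_two]⟩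
    have e : g = upM (g 0 0 / g 1 0) * d * wM * upM (g 1 1 / g 1 0) := by
      refine Subtype.ext ?_
      ext i j
      fin_cases i <;> fin_cases j <;>
        simp only [Matrix.SpecialLinearGroup.coe_mul] <;>
        simp [d, s, upM, wM,  Matrix.mul_apply, Fin.sum_univ_two] <;>
        field_simp
      linear_combination -hdet
    have h1 : φ wM ∈ chevD4.borelSubgroup K := by
      rw [e, map_mul, map_mul, map_mul] at hg
      have h2 : φ (upM (g 0 0 / g 1 0)) * φ d ∈ chevD4.borelSubgroup K := mul_mem (hup _) (hdg s d rfl)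
      have := mul_mem (mul_mem (inv_mem h2) (hF.diagonal_le_borel hg)) (inv_mem (hup (g 1 1 / g 1 0)))
      simpa [mul_assoc] using this
    rw [phi_wM φ hφ] at h1
    exact nU_not_borel φ hφ h1

theorem psiHom_injective : Function.Injective (psiHom C φ hφ) := by
  refine (injective_iff_map_eq_one _).2 fun p hp => ?_
  have hF := DataD4.facts
  have hp' : tor C p.1.1 * φ (sPart C p) = 1 := hp
  have hmem : φ (sPart C p) ∈ chevD4.diagonalSubgroup K := by
    rw [← inv_eq_of_mul_eq_one_right hp']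
    exact inv_mem (hF.mem_diagonal_iff.2 ⟨_, rfl⟩)
  obtain ⟨h01, h10⟩ := diag_of_phi_mem C φ hφ _ hmem
  have hdet := sl2_det (sPart C p)
  rw [h01, h10, mul_zero, sub_zero] at hdet
  let x : Kˣ := ⟨sPart C p 0 0, sPart C p 1 1, hdet, by rw [mul_comm]; exact hdet⟩
  have hx : (sPart C p : Matrix (Fin 2) (Fin 2) K) = !![(x : K), 0; 0, ((x⁻¹ : Kˣ) : K)] := by
    ext i j
    fin_cases i <;> fin_cases j
    · rfl
    · exact h01
    · exact h10
    · rfl
  rw [phi_diag C φ hφ x _ hx, tor, ← hF.hT_mul] at hp'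
  have e1 : (fun i => C.vec p.1.1 1 i * C.vec 1 x i) 0 = p.1.1 := by simp [Ctx.vec]
  have h4 := (hT_eq (c := fun i => C.vec p.1.1 1 i * C.vec 1 x i) (d := fun _ => 1)).1 (by
    rw [hp', hF.hT_one])
  simp only [div_one, Ctx.vec, one_mul, mul_one, map_one] at h4
  set a := p.1.1 with ha
  obtain ⟨q1, q2, q3, q4⟩ := h4
  have sq : (a * a) = (C.fu a * C.fu a) := q1.symm.trans q3
  have sq' : (a * a) = (C.fu (C.fu a) * C.fu (C.fu a)) := q1.symm.trans q4
  have hN : nrm C a = x * x := q2.symm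
  have h5 : nrm C a * nrm C a = (a * a) * (a * a) * (a * a) := by
    have key : a * C.fu a * C.fu (C.fu a) * (a * C.fu a * C.fu (C.fu a)) =
        (a * a) * (C.fu a * C.fu a) * (C.fu (C.fu a) * C.fu (C.fu a)) := by ac_rfl
    rw [← sq, ← sq'] at key
    exact key
  have h6 : a * a = 1 := by
    rw [hN, q1] at h5
    have : (a * a) * (a * a) * (a * a) * 1 = (a * a) * (a * a) * (a * a) * (a * a) := by
      rw [mul_one]; nth_rw 1 [← h5]; ac_rfl
    exact (mul_left_cancel this).symm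
  have hN1 : nrm C a = 1 := by rw [hN, q1, h6, one_mul]
  have ha1 : a = 1 := by
    have e2 : C.fu a = a := C.fu_of_sq h6
    have h7 : nrm C a = a * a * a := by
      show a * C.fu a * C.fu (C.fu a) = _
      rw [e2, e2]
    rwa [h7, h6, one_mul] at hN1
  have hx1 : x = 1 := by rw [q1, h6]
  refine Subtype.ext (Prod.ext ha1 (Units.ext (Matrix.ext fun i j => Subtype.ext ?_)))
  have hM := fun i j => congrFun (congrFun hx i) j
  simp only [sPart, ← ha, hN1, inv_one, Units.val_one, one_mul, hx1] at hM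
  have h00 := hM 0 0
  have h01' := hM 0 1
  have h10' := hM 1 0
  have h11 := hM 1 1
  fin_cases i <;> fin_cases j <;> simp at h00 h01' h10' h11 ⊢ <;> simp [h00, h01', h10', h11]

theorem phi_mem (g : SL(2, Fq C)) :
    φ (Matrix.SpecialLinearGroup.map (Fq C).subtype g) ∈ twistedD4 K q := by
  have hup : ∀ t : Fq C, φ (Matrix.SpecialLinearGroup.map (Fq C).subtype (upM t)) ∈ twistedD4 K q := by
    intro t
    rw [show Matrix.SpecialLinearGroup.map (Fq C).subtype (upM t) = upM (t : K) from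
      Subtype.ext (Matrix.ext fun i j => by
        change (Fq C).subtype (((upM t : SL(2, Fq C)) : Matrix (Fin 2) (Fin 2) (Fq C)) i j) = _
        fin_cases i <;> fin_cases j <;> simp [upM]), hφ.1]
    have := C.mem_gen (w := [(d4p2, (t : K))]) (Or.inl ⟨t, (mem_Fq C).1 t.2, d4p2, by simp, rfl⟩)
    simpa [wU] using this
  have hlo : ∀ t : Fq C, φ (Matrix.SpecialLinearGroup.map (Fq C).subtype (loM t)) ∈ twistedD4 K q := by
    intro t
    rw [show Matrix.SpecialLinearGroup.map (Fq C).subtype (loM t) = loM (t : K) from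
      Subtype.ext (Matrix.ext fun i j => by
        change (Fq C).subtype (((loM t : SL(2, Fq C)) : Matrix (Fin 2) (Fin 2) (Fq C)) i j) = _
        fin_cases i <;> fin_cases j <;> simp [loM]), hφ.2]
    have := C.mem_gen (w := [(d4m2, (t : K))]) (Or.inl ⟨t, (mem_Fq C).1 t.2, d4m2, by simp, rfl⟩)
    simpa [wU] using this
  let S : Submonoid SL(2, Fq C) :=
    (twistedD4 K q).toSubmonoid.comap (φ.comp (Matrix.SpecialLinearGroup.map (Fq C).subtype))
  have hle : Submonoid.closure ({wM} ∪ Set.range (upM : Fq C → SL(2, Fq C))) ≤ S := by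
    refine Submonoid.closure_le.2 ?_
    rintro x (rfl | ⟨t, rfl⟩)
    · rw [wM_eq]
      exact S.mul_mem (S.mul_mem (hup _) (hlo _)) (hup _)
    · exact hup t
  exact hle (sl2_gen (DataD4.facts.rankOne (F := Fq C) p2_lt) g)

theorem psiHom_mem (p : pairGrp C) : psiHom C φ hφ p ∈ twistedD4 K q := by
  refine mul_mem (C.vec_mem _ (one_pow _)) ?_
  have hmem : ∀ i j, (sPart C p) i j ∈ Fq C := by
    have hn : (((nrm C p.1.1)⁻¹ : Kˣ) : K) ∈ Fq C := by
      rw [Units.val_inv_eq_inv_val]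
      refine inv_mem ((mem_Fq C).2 ?_)
      rw [← Units.val_pow_eq_pow_val, ← fu_eq_pow, nrm_fix]
    intro i j
    fin_cases i <;> fin_cases j
    · exact ((p.1.2 : Matrix (Fin 2) (Fin 2) (Fq C)) 0 0).2
    · exact ((p.1.2 : Matrix (Fin 2) (Fin 2) (Fq C)) 0 1).2
    · exact mul_mem hn ((p.1.2 : Matrix (Fin 2) (Fin 2) (Fq C)) 1 0).2
    · exact mul_mem hn ((p.1.2 : Matrix (Fin 2) (Fin 2) (Fq C)) 1 1).2
  let g : SL(2, Fq C) := ⟨Matrix.of fun i j => ⟨sPart C p i j, hmem i j⟩, by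
    refine Subtype.ext ?_
    have := (sPart C p).2
    rw [Matrix.det_fin_two] at this ⊢
    simpa using this⟩
  have e : sPart C p = Matrix.SpecialLinearGroup.map (Fq C).subtype g :=
    Subtype.ext (Matrix.ext fun i j => rfl)
  exact e ▸ phi_mem C φ hφ g

theorem vec_mem_range (a b : Kˣ) (hb : b ^ (q - 1) = 1) :
    hT chevD4 (C.vec a b) ∈ (psiHom C φ hφ).range := by
  have hq := C.q_gt
  have hbF : (b : K) ∈ Fq C := (mem_Fq C).2 (by
    rw [← Units.val_pow_eq_pow_val, show q = q - 1 + 1 by omega, pow_succ, hb, one_mul])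
  have hnF : ((nrm C a * b⁻¹ : Kˣ) : K) ∈ Fq C := by
    rw [Units.val_mul, Units.val_inv_eq_inv_val]
    refine mul_mem ((mem_Fq C).2 ?_) (inv_mem hbF)
    rw [← Units.val_pow_eq_pow_val, ← fu_eq_pow, nrm_fix]
  let M : GL (Fin 2) (Fq C) := Matrix.GeneralLinearGroup.mkOfDetNeZero
    !![⟨(b : K), hbF⟩, 0; 0, ⟨((nrm C a * b⁻¹ : Kˣ) : K), hnF⟩] (by
      rw [Matrix.det_fin_two_of, mul_zero, sub_zero]
      exact fun h => (nrm C a).ne_zero (by simpa using congrArg Subtype.val h))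
  have hM : (M : Matrix (Fin 2) (Fin 2) (Fq C)) =
      !![⟨(b : K), hbF⟩, 0; 0, ⟨((nrm C a * b⁻¹ : Kˣ) : K), hnF⟩] := rfl
  let p : pairGrp C := ⟨(a, M), (mem_pairGrp C).2 (Units.ext (by
    simp only [Units.coe_map, RingHom.toMonoidHom_eq_coe, MonoidHom.coe_coe,
      Matrix.GeneralLinearGroup.val_det_apply, hM, Matrix.det_fin_two_of]
    simp [mul_comm (b : K), mul_assoc]))⟩
  refine ⟨p, ?_⟩
  show tor C a * φ (sPart C p) = _
  rw [phi_diag C φ hφ b (sPart C p) ?_, tor, ← DataD4.facts.hT_mul]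
  · refine DataD4.facts.hT_congr fun i hi => ?_
    have hi4 : i < 4 := hi
    interval_cases i <;> simp [Ctx.vec]
  · ext i j
    fin_cases i <;> fin_cases j <;>
      simp [sPart, p, hM, Units.val_inv_eq_inv_val]

theorem phi_map_mem_range (g : SL(2, Fq C)) :
    φ (Matrix.SpecialLinearGroup.map (Fq C).subtype g) ∈ (psiHom C φ hφ).range := by
  let p : pairGrp C := ⟨(1, Matrix.SpecialLinearGroup.toGL g), (mem_pairGrp C).2 (Units.ext (by
    simp [g.2]))⟩
  refine ⟨p, ?_⟩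
  show tor C 1 * φ (sPart C p) = _
  rw [show tor C 1 = 1 from (DataD4.facts.hT_congr fun i hi => by
    have hi4 : i < 4 := hi
    interval_cases i <;> simp [Ctx.vec]).trans DataD4.facts.hT_one, one_mul]
  refine congrArg φ (Subtype.ext ?_)
  ext i j
  fin_cases i <;> fin_cases j <;> simp [sPart, p]

end CfsgLib.Chev.TwD4.Torus
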