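/-
Centralisers in ³D₄ of the central elements of the reductive part attached to the long simple root.
-/
import Mathlib
import Cfsg.Agent.Lib.Chev.Twist.D4Torus.Emb
import Cfsg.Agent.Lib.Known.ChevSinger.Bruhat

set_option autoImplicit false
set_option maxRecDepth 20000

namespace CfsgLib.Chev.TwD4.Torus

open Cfsg.Lie CfsgLib.Known.ChevSinger

universe v

/-- A centralised positive element lies in the centralised root subgroups. -/
theorem cent_pos {D : ChevalleyDatum} {co : ℕ → ℕ → ℤ} {F : Type v} [Field F] (hF : Facts D co)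
    (hC : CommF.{v} D) {χ : ℕ → Fˣ} (hχ : IsWeight D (fun r => Additive.ofMul (χ r))) {u : GL D.Idx F}
    (hu : u ∈ rootClosure D F (D.nroots / 2 ≤ ·)) (hc : dU D χ * u * (dU D χ)⁻¹ = u) :
    ∃ t : ℕ → F, u = wU D ((List.range' (D.nroots / 2) (D.nroots / 2)).map fun r => (r, t r)) ∧
      ∀ r, D.nroots / 2 ≤ r → r < D.nroots → χ r ≠ 1 → t r = 0 := by
  have hev := hF.nroots_even
  obtain ⟨t, rfl⟩ := hF.exists_ordered hC (m := D.nroots / 2) (k := D.nroots / 2) (by omega) le_rfl hu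
  refine ⟨t, rfl, fun r h1 h2 hne => ?_⟩
  rw [CfsgLib.Known.G2Singer.conj_wU hF hχ _ (fun p hp => by
    obtain ⟨r, hr, rfl⟩ := List.mem_map.1 hp
    rw [List.mem_range'_1] at hr
    show r < D.nroots
    omega), List.map_map] at hc
  have := hF.ordered_unique (m := D.nroots / 2) (k := D.nroots / 2) (by omega) le_rfl
      (t := fun r => (χ r : F) * t r) (t' := t) hc r h1 h2
  by_contra h0
  exact hne (Units.ext (mul_right_cancel₀ h0 (this.trans (one_mul _).symm)))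

/-- The coefficients. -/
def cc (s : ℕ) : ℤ × ℤ × ℤ := (DataD4.co s 0, DataD4.co s 2, DataD4.co s 3)

/-- The exponent of the value of a root at the central element. -/
def ez (q : ℤ) (s : ℕ) : ℤ :=
  (cc s).1 * (1 + q - q * q) + (cc s).2.1 * (q + q * q - 1) + (cc s).2.2 * (1 - q + q * q)

theorem cartan_co : ∀ s : Fin 24, chevD4.cartan 0 s = 2 * DataD4.co s 0 - DataD4.co s 1 ∧
    chevD4.cartan 1 s = -DataD4.co s 0 + 2 * DataD4.co s 1 - DataD4.co s 2 - DataD4.co s 3 ∧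
    chevD4.cartan 2 s = -DataD4.co s 1 + 2 * DataD4.co s 2 ∧
    chevD4.cartan 3 s = -DataD4.co s 1 + 2 * DataD4.co s 3 := by
  decide +kernel

theorem cc_cases : ∀ s : Fin 24, s.val = 14 ∨ s.val = 9 ∨ cc s ∈
    [((1 : ℤ), (0 : ℤ), (0 : ℤ)), (0, 1, 0), (0, 0, 1), (1, 1, 0), (1, 0, 1), (0, 1, 1), (1, 1, 1),
      (-1, 0, 0), (0, -1, 0), (0, 0, -1), (-1, -1, 0), (-1, 0, -1), (0, -1, -1), (-1, -1, -1)] := by
  decide +kernel

/-- The words of the fixed Weyl group. -/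
def fixW : List (List ℕ) :=
  [[], [1], [0, 2, 3], [1, 0, 2, 3], [0, 2, 3, 1], [1, 0, 2, 3, 1], [0, 2, 3, 1, 0, 2, 3],
    [1, 0, 2, 3, 1, 0, 2, 3], [0, 2, 3, 1, 0, 2, 3, 1], [1, 0, 2, 3, 1, 0, 2, 3, 1],
    [0, 2, 3, 1, 0, 2, 3, 1, 0, 2, 3], [1, 0, 2, 3, 1, 0, 2, 3, 1, 0, 2, 3]]

/-- The image of a root. -/
def img (a s : ℕ) : ℕ := (fixW.getD a []).foldr (fun i x => chevD4.reflectRoot i x) s

theorem img_step : ∀ a : Fin 12, ∀ o : Fin spec.length, ∃ b : Fin 12, ∀ s : Fin 24,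
    img a.val (((O o).word.map Fin.val).foldr (fun i x => chevD4.reflectRoot i x) s.val) = img b.val s.val := by
  decide +kernel

theorem img_crit : ∀ a : Fin 12, a.val = 0 ∨ a.val = 1 ∨ (img a.val 14 ≠ 14 ∧ img a.val 14 ≠ 9) ∨
    (img a.val 17 < 24 ∧ cc (img a.val 17) = (-(cc 17).1, -(cc 17).2.1, -(cc 17).2.2)) := by
  decide +kernel

variable {K : Type v} [Field K] [Fintype K] {q : ℕ} (C : Ctx K q)

/-- A fixed element of the Weyl group is in the table. -/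
theorem exists_img {w : Equiv.Perm (Fin chevD4.nroots)} (hl : ∃ l, w = sW chevD4 l) (hw : C.sys.sig.WFix w) :
    ∃ a : Fin 12, ∀ s : Fin chevD4.nroots, (w s).val = img a.val s.val := by
  obtain ⟨l, hl⟩ := hl
  refine C.sys.w_induction (motive := fun w => ∃ a : Fin 12, ∀ s, (w s).val = img a.val s.val) ?_ ?_ w l hl hw
  · exact ⟨0, fun s => by simp [img, fixW]⟩
  · rintro u m o - - - ⟨a, ha⟩
    obtain ⟨b, hb⟩ := img_step a o
    refine ⟨b, fun s => ?_⟩
    have e : u s = (u * (O o).wO) ((O o).wO s) := by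
      rw [Equiv.Perm.mul_apply, ← Equiv.Perm.mul_apply (O o).wO, C.sys.orb.sq o, Equiv.Perm.one_apply]
    rw [e, ha, Orb.wO, DataD4.facts.sW_val_foldr]
    exact hb ⟨s.val, s.isLt⟩

/-- The shape of a centralising element. -/
theorem decompose (c : ℕ → Kˣ) {g : GL chevD4.Idx K} (hg : g ∈ twistedD4 K q)
    (h : hT chevD4 c * g = g * hT chevD4 c) :
    ∃ u1 k n u : GL chevD4.Idx K, ∃ w : Equiv.Perm (Fin chevD4.nroots),
      (u1 ∈ fixS C.σ ∧ u1 ∈ rootClosure chevD4 K (chevD4.nroots / 2 ≤ ·) ∧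
        hT chevD4 c * u1 * (hT chevD4 c)⁻¹ = u1) ∧
      (k ∈ twistedD4 K q ∧ k ∈ chevD4.diagonalSubgroup K) ∧
      (n ∈ twistedD4 K q ∧ n ∈ chevD4.monomialSubgroup K ∧ PermAct n w ∧
        ∃ a : Fin 12, ∀ s, (w s).val = img a.val s.val) ∧
      (u ∈ fixS C.σ ∧ u ∈ rootClosure chevD4 K (chevD4.nroots / 2 ≤ ·) ∧
        hT chevD4 c * u * (hT chevD4 c)⁻¹ = u) ∧
      g = u1 * k * n * u ∧
      ∀ s : Fin chevD4.nroots, chiT chevD4 c s.val = chiT chevD4 c (w s).val := by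
  have hF := DataD4.facts
  obtain ⟨b, hbG, hb, n, hnG, hn, w, hw, hwf, u, hu, rfl⟩ := C.sys.bruhat hg
  obtain ⟨u1, hu1G, hu1, k, hkG, hk, rfl⟩ := C.sys.mem_B hbG hb
  obtain ⟨l, k', hk', hlk⟩ := hF.exists_nW hn
  have hwl : w = sW chevD4 l := by
    refine hF.permAct_unique hw ?_
    rw [hlk]
    simpa using hF.permAct_mul (hF.permAct_nW l) (hF.permAct_diagonal hk')
  set d := hT chevD4 c with hdd
  have hd : d ∈ chevD4.diagonalSubgroup K := hF.mem_diagonal_iff.2 ⟨c, rfl⟩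
  have hu1c : d * u1 * d⁻¹ ∈ rootClosure chevD4 K (chevD4.nroots / 2 ≤ ·) :=
    (Subgroup.mem_normalizer_iff.1 (hF.diagonal_le_normalizer _ hd) u1).1 hu1
  have huc : d * u * d⁻¹ ∈ rootClosure chevD4 K (PosFlip w) :=
    (Subgroup.mem_normalizer_iff.1 (hF.diagonal_le_normalizer _ hd) u).1 hu.2
  have hkc : d * k = k * d := by
    obtain ⟨a, rfl⟩ := hF.mem_diagonal_iff.1 hk
    rw [hdd, hT, hT]
    exact (dU_commute _ _).eq
  set e := n * d * n⁻¹ with he
  have heD : e ∈ chevD4.diagonalSubgroup K := monomial_conj_diag hF hn hd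
  have hb' : d * u1 * d⁻¹ * (k * d * e⁻¹) ∈ chevD4.borelSubgroup K :=
    Subgroup.mul_mem _ (hF.pos_le_borel hu1c) (hF.diagonal_le_borel
      (Subgroup.mul_mem _ (Subgroup.mul_mem _ hk hd) (Subgroup.inv_mem _ heD)))
  have heq : u1 * k * n * u = d * u1 * d⁻¹ * (k * d * e⁻¹) * n * (d * u * d⁻¹) := by
    calc u1 * k * n * u = (u1 * k * n * u * d) * d⁻¹ := by group
      _ = (d * (u1 * k * n * u)) * d⁻¹ := by rw [h]
      _ = d * u1 * d⁻¹ * (d * k) * n * u * d⁻¹ := by group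
      _ = d * u1 * d⁻¹ * (k * d) * n * u * d⁻¹ := by rw [hkc]
      _ = _ := by rw [he]; group
  obtain ⟨hbe, hue⟩ := hF.bruhat_unique hw hb hb' hu.2 huc heq
  have e2 : (d * u1 * d⁻¹)⁻¹ * u1 = k * d * e⁻¹ * k⁻¹ := by
    rw [eq_mul_inv_iff_mul_eq, mul_assoc, hbe]
    group
  have e3 : (d * u1 * d⁻¹)⁻¹ * u1 ∈
      rootClosure chevD4 K (chevD4.nroots / 2 ≤ ·) ⊓ chevD4.diagonalSubgroup K :=
    ⟨Subgroup.mul_mem _ (Subgroup.inv_mem _ hu1c) hu1,
      e2 ▸ Subgroup.mul_mem _ (Subgroup.mul_mem _ (Subgroup.mul_mem _ hk hd)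
        (Subgroup.inv_mem _ heD)) (Subgroup.inv_mem _ hk)⟩
  rw [hF.pos_inf_diagonal, Subgroup.mem_bot] at e3
  rw [e3, eq_comm, mul_inv_eq_one, mul_assoc, mul_eq_left, mul_inv_eq_one] at e2
  have hnd : n * d = d * n := by
    nth_rw 2 [e2]
    rw [he]
    group
  refine ⟨u1, k, n, u, w, ⟨C.sys.le_fix hu1G, hu1, inv_mul_eq_one.1 e3⟩, ⟨hkG, hk⟩,
    ⟨hnG, hn, hw, exists_img C ⟨l, hwl⟩ hwf⟩,
    ⟨hu.1, rootClosure_mono (fun _ _ h => h.2.1) hu.2, hue.symm⟩, rfl,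
    fun s => permAct_intertwine hF hw hnd s⟩

include C in
theorem pow_N_eq_one (A : Kˣ) : A ^ ((q : ℤ) * q * q - 1) = 1 := by
  have h : A ^ (q ^ 3 - 1) = 1 := by
    classical
    rw [← C.card, ← Fintype.card_units]; exact pow_card_eq_one
  rw [← zpow_natCast, Nat.cast_sub (Nat.one_le_pow _ _ (by have := C.q_gt; omega))] at h
  push_cast at h
  rwa [show (q : ℤ) * q * q - 1 = (q : ℤ) ^ 3 - 1 by ring]

/-- The central element. -/
noncomputable def zc (A : Kˣ) : ℕ → Kˣ := C.vec (A ^ (q + 1)) (nrm C A)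

theorem chi_zc (A : Kˣ) (s : Fin 24) : chiT chevD4 (zc C A) s.val = A ^ ez q s.val := by
  obtain ⟨h0, h1, h2, h3⟩ := cartan_co s
  rw [chiT, show chevD4.rank = 4 from tables.2.1]
  simp only [Finset.prod_range_succ, Finset.prod_range_zero, one_mul, zc, Ctx.vec, fu_eq_pow, nrm_eq_pow,
    ← pow_mul]
  simp only [← zpow_natCast A, ← zpow_mul, ← zpow_add]
  push_cast
  rw [h0, h1, h2, h3, ez, cc]
  dsimp only
  have key : ((q : ℤ) + 1) * (2 * DataD4.co s.val 0 - DataD4.co s.val 1) +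
      ((q : ℤ) ^ 2 + q + 1) * (-DataD4.co s.val 0 + 2 * DataD4.co s.val 1 - DataD4.co s.val 2 - DataD4.co s.val 3) +
      ((q : ℤ) + 1) * q * (-DataD4.co s.val 1 + 2 * DataD4.co s.val 2) +
      ((q : ℤ) + 1) * q * q * (-DataD4.co s.val 1 + 2 * DataD4.co s.val 3) =
      (DataD4.co s.val 0 * (1 + (q : ℤ) - q * q) + DataD4.co s.val 2 * (q + q * q - 1) +
        DataD4.co s.val 3 * (1 - q + q * q)) +
      ((q : ℤ) * q * q - 1) * (2 * DataD4.co s.val 3 - DataD4.co s.val 1) := by ring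
  rw [key, zpow_add, zpow_mul, pow_N_eq_one C, one_zpow, mul_one]

variable {A : Kˣ}

include C in
/-- The exponents that give one. -/
theorem dvd_of_zpow_one (hA : orderOf A = q ^ 3 - 1) {e : ℤ} (h : A ^ e = 1) : ((q : ℤ) * q * q - 1) ∣ e := by
  have := orderOf_dvd_iff_zpow_eq_one.2 h
  rw [hA, Nat.cast_sub (Nat.one_le_pow _ _ (by have := C.q_gt; omega))] at this
  push_cast at this
  rwa [show (q : ℤ) * q * q - 1 = (q : ℤ) ^ 3 - 1 by ring]

theorem chi_ne_one (hq : 3 ≤ q) (hA : orderOf A = q ^ 3 - 1) (s : Fin 24) (h14 : s.val ≠ 14) (h9 : s.val ≠ 9) :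
    chiT chevD4 (zc C A) s.val ≠ 1 := by
  rw [chi_zc]
  intro h
  have hd := dvd_of_zpow_one C hA h
  have hq' : (3 : ℤ) ≤ q := by exact_mod_cast hq
  have sm : (9 : ℤ) * q ≤ q * q * q := by nlinarith
  have sm2 : (3 : ℤ) * (q * q) ≤ q * q * q := by nlinarith
  have bound : ∀ e : ℤ, e ≠ 0 → -((q : ℤ) * q * q - 1) < e → e < (q : ℤ) * q * q - 1 →
      ¬ ((q : ℤ) * q * q - 1) ∣ e := fun e he h1 h2 hd =>
    he (Int.eq_zero_of_abs_lt_dvd hd (abs_lt.2 ⟨h1, h2⟩))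
  rcases (cc_cases s).resolve_left h14 |>.resolve_left h9 with hc
  simp only [List.mem_cons, List.not_mem_nil, or_false] at hc
  rcases hc with e | e | e | e | e | e | e | e | e | e | e | e | e | e <;>
    (simp only [ez, e] at hd; refine bound _ ?_ ?_ ?_ hd <;> nlinarith)

theorem u_mem_range (φ : Matrix.SpecialLinearGroup (Fin 2) K →* GL chevD4.Idx K)
    (hφ : (∀ t : K, φ (upM t) = xU chevD4 d4p2 t) ∧ ∀ t : K, φ (loM t) = xU chevD4 d4m2 t)
    (hq : 3 ≤ q) (hA : orderOf A = q ^ 3 - 1) {u : GL chevD4.Idx K} (hf : u ∈ fixS C.σ)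
    (hu : u ∈ rootClosure chevD4 K (chevD4.nroots / 2 ≤ ·))
    (hc : hT chevD4 (zc C A) * u * (hT chevD4 (zc C A))⁻¹ = u) : u ∈ (psiHom C φ hφ).range := by
  have hF := DataD4.facts
  rw [hT_eq_dU] at hc
  obtain ⟨t, hu', ht⟩ := cent_pos hF C.sys.sig.hC (χ := chiT chevD4 (zc C A)) (hF.isWeight_hT _) hu hc
  have hmem : u ∈ chevD4.rootSubgroup K d4p2 := by
    rw [hu']
    refine wU_mem fun p hp => ?_
    obtain ⟨r, hr, rfl⟩ := List.mem_map.1 hp
    rw [List.mem_range'_1] at hr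
    have hr24 : r < 24 := by
      have := tables.1
      omega
    by_cases h14 : r = 14
    · subst h14
      exact (hF.mem_rootSubgroup_iff p2_lt).2 ⟨_, rfl⟩
    · have h9 : r ≠ 9 := by
        have := tables.1
        omega
      rw [ht r hr.1 (by rw [tables.1]; exact hr24) (chi_ne_one C hq hA ⟨r, hr24⟩ h14 h9), hF.xU_zero (by rw [tables.1]; exact hr24)]
      exact one_mem _
  obtain ⟨x, rfl⟩ := (hF.mem_rootSubgroup_iff p2_lt).1 hmem
  have hx : x ^ q = x := by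
    have h := C.img_one (r := d4p2) (by decide) (by decide +kernel) x
    rw [show parD4.rho d4p2 = d4p2 from tables.2.2.2.2.2.1, C.hf] at h
    exact hF.xU_left_inj p2_lt (h.unique hf)
  have := phi_map_mem_range C φ hφ (upM ⟨x, (mem_Fq C).2 hx⟩)
  rwa [show Matrix.SpecialLinearGroup.map (Fq C).subtype (upM ⟨x, (mem_Fq C).2 hx⟩) = upM x from
    Subtype.ext (Matrix.ext fun i j => by
      change (Fq C).subtype (((upM (⟨x, (mem_Fq C).2 hx⟩ : Fq C)) : Matrix (Fin 2) (Fin 2) (Fq C)) i j) = _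
      fin_cases i <;> fin_cases j <;> simp [upM]), hφ.1] at this

theorem diag_mem_range (φ : Matrix.SpecialLinearGroup (Fin 2) K →* GL chevD4.Idx K)
    (hφ : (∀ t : K, φ (upM t) = xU chevD4 d4p2 t) ∧ ∀ t : K, φ (loM t) = xU chevD4 d4m2 t)
    {k : GL chevD4.Idx K} (hk : k ∈ twistedD4 K q) (hd : k ∈ chevD4.diagonalSubgroup K) :
    k ∈ (psiHom C φ hφ).range := by
  obtain ⟨a, b, hb, rfl⟩ := C.exists_vec hd (C.sys.le_fix hk)
  exact vec_mem_range C φ hφ a b hb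

/-- The centraliser of the central element. -/
theorem cent_le_range (φ : Matrix.SpecialLinearGroup (Fin 2) K →* GL chevD4.Idx K)
    (hφ : (∀ t : K, φ (upM t) = xU chevD4 d4p2 t) ∧ ∀ t : K, φ (loM t) = xU chevD4 d4m2 t)
    (hq : 3 ≤ q) (hA : orderOf A = q ^ 3 - 1) {g : GL chevD4.Idx K} (hg : g ∈ twistedD4 K q)
    (h : hT chevD4 (zc C A) * g = g * hT chevD4 (zc C A)) : g ∈ (psiHom C φ hφ).range := by
  have hF := DataD4.facts
  have hn24 := tables.1
  obtain ⟨u1, k, n, u, w, ⟨h1, h1', h1c⟩, ⟨hk, hk'⟩, ⟨hn, hn', hw, a, ha⟩, ⟨h2, h2', h2c⟩, rfl, hχ⟩ :=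
    decompose C (zc C A) hg h
  refine Subgroup.mul_mem _ (Subgroup.mul_mem _ (Subgroup.mul_mem _ (u_mem_range C φ hφ hq hA h1 h1' h1c)
    (diag_mem_range C φ hφ hk hk')) ?_) (u_mem_range C φ hφ hq hA h2 h2' h2c)
  rcases img_crit a with e | e | e | e
  · refine diag_mem_range C φ hφ hn (hF.mem_diagonal_of_permAct hn' ?_)
    rwa [show w = 1 from Equiv.ext fun s => Fin.ext (by rw [ha, e]; simp [img, fixW])] at hw
  · have hrk : 1 < chevD4.rank := by rw [tables.2.1]; norm_num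
    have hν : φ wM = nS chevD4 K ⟨1, hrk⟩ := by
      rw [phi_wM φ hφ, nS, cartan_p2.2.2.2.2.2.2.2.2.2.2]
    have hνr : φ wM ∈ (psiHom C φ hφ).range := by
      have := phi_map_mem_range C φ hφ wM
      rwa [show Matrix.SpecialLinearGroup.map (Fq C).subtype (wM : Matrix.SpecialLinearGroup (Fin 2) (Fq C)) = wM from
        Subtype.ext (Matrix.ext fun i j => by
          change (Fq C).subtype (((wM : Matrix.SpecialLinearGroup (Fin 2) (Fq C)) : Matrix (Fin 2) (Fin 2) (Fq C)) i j) = _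
          fin_cases i <;> fin_cases j <;> simp [wM])] at this
    have hw1 : w = sW chevD4 [⟨1, hrk⟩] := Equiv.ext fun s => Fin.ext (by
      rw [ha, e, hF.sW_val_foldr]; rfl)
    have hνp : PermAct (φ wM) w := by
      rw [hν, hw1]
      have := hF.permAct_nW (F := K) [⟨1, hrk⟩]
      simpa [nW] using this
    have hνN : φ wM ∈ chevD4.monomialSubgroup K := by
      rw [hν]
      exact hF.nS_mem ⟨1, hrk⟩
    have hd : (φ wM)⁻¹ * n ∈ chevD4.diagonalSubgroup K := hF.same_perm hνN hn' hνp hw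
    have hνG : φ wM ∈ twistedD4 K q := by
      obtain ⟨p, hp⟩ := hνr
      exact hp ▸ psiHom_mem C φ hφ p
    have := Subgroup.mul_mem _ hνr (diag_mem_range C φ hφ (Subgroup.mul_mem _ (Subgroup.inv_mem _ hνG) hn) hd)
    rwa [mul_inv_cancel_left] at this
  · exfalso
    have h14 := hχ ⟨14, by rw [hn24]; norm_num⟩
    rw [chi_zc C A ⟨14, by norm_num⟩] at h14
    have e0 : ez q 14 = 0 := by simp [ez, show cc 14 = (0, 0, 0) from by decide +kernel]
    rw [show ((⟨14, by norm_num⟩ : Fin 24) : ℕ) = 14 from rfl, e0, zpow_zero, ha] at h14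
    have hlt : img a.val 14 < 24 := by
      have := (w ⟨14, by rw [hn24]; norm_num⟩).isLt
      rw [ha] at this
      simpa [hn24] using this
    exact chi_ne_one C hq hA ⟨img a.val 14, hlt⟩ e.1 e.2 h14.symm
  · exfalso
    have h17 := hχ ⟨17, by rw [hn24]; norm_num⟩
    rw [ha, chi_zc C A ⟨17, by norm_num⟩, chi_zc C A ⟨img a.val 17, e.1⟩] at h17
    have e1 : ez q (img a.val 17) = -ez q 17 := by simp only [ez, e.2]; ring
    rw [e1, zpow_neg, eq_inv_iff_mul_eq_one, ← zpow_add] at h17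
    have hd := dvd_of_zpow_one C hA h17
    have e2 : ez q 17 + ez q 17 = 4 * ((q : ℤ) * q) := by
      simp [ez, show cc 17 = (0, 1, 1) from by decide +kernel]; ring
    rw [e2] at hd
    have h4 : ((q : ℤ) * q * q - 1) ∣ 4 := by
      have := dvd_sub (hd.mul_right (q : ℤ)) ((dvd_refl ((q : ℤ) * q * q - 1)).mul_left 4)
      rwa [show 4 * ((q : ℤ) * q) * q - 4 * ((q : ℤ) * q * q - 1) = 4 by ring] at this
    have := Int.le_of_dvd (by norm_num) h4
    have hq' : (3 : ℤ) ≤ q := by exact_mod_cast hq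
    nlinarith

end CfsgLib.Chev.TwD4.Torus
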