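/-
A Singer element of GL₂ over a finite field and its centraliser.
-/
import Mathlib

set_option autoImplicit false

namespace CfsgLib.Chev.TwD4.Torus

/-- A Singer element: its powers are its centraliser. -/
theorem exists_singer (F : Type*) [Field F] [Fintype F] :
    ∃ M : GL (Fin 2) F,
      orderOf M = Fintype.card F ^ 2 - 1 ∧
      orderOf (Matrix.GeneralLinearGroup.det M) = Fintype.card F - 1 ∧
      ((M ^ (Fintype.card F + 1) : GL (Fin 2) F) : Matrix (Fin 2) (Fin 2) F) =
        ((Matrix.GeneralLinearGroup.det M : Fˣ) : F) • (1 : Matrix (Fin 2) (Fin 2) F) ∧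
      ∀ M' : GL (Fin 2) F, M' * M = M * M' → ∃ n : ℕ, M' = M ^ n := by
  classical
  obtain ⟨p, hp⟩ := CharP.exists F
  obtain ⟨f, hpp, hf⟩ := FiniteField.card F p
  haveI : Fact p.Prime := ⟨hpp⟩
  set q := Fintype.card F with hq
  let E := FiniteField.Extension F p 2
  haveI : Finite E := inferInstance
  haveI : Fintype E := Fintype.ofFinite E
  have hE : Nat.card E = q ^ 2 := by
    rw [FiniteField.natCard_extension, Nat.card_eq_fintype_card]
  have hrank : Module.finrank F E = 2 := by
    have h := Module.natCard_eq_pow_finrank (K := F) (V := E)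
    rw [hE, Nat.card_eq_fintype_card (α := F), ← hq] at h
    exact (Nat.pow_right_injective (Fintype.one_lt_card (α := F)) h).symm
  let b : Module.Basis (Fin 2) F E := Module.finBasisOfFinrankEq F E hrank
  let Φ : E →ₐ[F] Matrix (Fin 2) (Fin 2) F := Algebra.leftMulMatrix b
  have hinj : Function.Injective Φ := Algebra.leftMulMatrix_injective b
  obtain ⟨ξ, hξ⟩ := IsCyclic.exists_generator (α := Eˣ)
  have hordξ : orderOf ξ = q ^ 2 - 1 := by
    rw [orderOf_eq_card_of_forall_mem_zpowers hξ, Nat.card_units, hE]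
  let u : Eˣ →* GL (Fin 2) F := Units.map Φ.toMonoidHom
  have hu : Function.Injective u := fun x y e => Units.ext (hinj (congrArg Units.val e :))
  have hdet : ∀ e : Eˣ, algebraMap F E ((Matrix.GeneralLinearGroup.det (u e) : Fˣ) : F) = (e : E) ^ (q + 1) := by
    intro e
    rw [Matrix.GeneralLinearGroup.val_det_apply]
    show algebraMap F E (Matrix.det (Algebra.leftMulMatrix b (e : E))) = _
    rw [← Algebra.norm_eq_matrix_det b, FiniteField.algebraMap_norm_eq_pow, hE, Nat.card_eq_fintype_card]
    congr 1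
    refine Nat.div_eq_of_eq_mul_left ?_ ?_
    · have := Fintype.one_lt_card (α := F); omega
    · have h1 : q ^ 2 - 1 ^ 2 = (q + 1) * (q - 1) := Nat.sq_sub_sq q 1
      simpa using h1
  refine ⟨u ξ, ?_, ?_, ?_, ?_⟩
  · rw [orderOf_injective u hu, hordξ]
  · let a : Fˣ →* Eˣ := Units.map (algebraMap F E).toMonoidHom
    have ha : Function.Injective a := fun x y e =>
      Units.ext ((algebraMap F E).injective (congrArg Units.val e :))
    rw [← orderOf_injective a ha]
    have e : a (Matrix.GeneralLinearGroup.det (u ξ)) = ξ ^ (q + 1) := Units.ext (by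
      rw [Units.val_pow_eq_pow_val]; exact hdet ξ)
    rw [e, orderOf_pow, hordξ]
    have h1 : q ^ 2 - 1 = (q + 1) * (q - 1) := by simpa using Nat.sq_sub_sq q 1
    rw [h1, Nat.gcd_eq_right (dvd_mul_right _ _), Nat.mul_div_cancel_left _ (Nat.succ_pos _)]
  · rw [← map_pow]
    show Φ ((ξ ^ (q + 1) : Eˣ) : E) = _
    rw [Units.val_pow_eq_pow_val, ← hdet, AlgHom.commutes, Algebra.algebraMap_eq_smul_one]
  · intro M' hM
    have hcomm : ∀ e : E, (M' : Matrix (Fin 2) (Fin 2) F) * Φ e = Φ e * M' := by
      intro e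
      by_cases he : e = 0
      · simp [he]
      · obtain ⟨k, hk⟩ := (Subgroup.mem_zpowers_iff).1 (hξ (Units.mk0 e he))
        have h2 : M' * u (Units.mk0 e he) = u (Units.mk0 e he) * M' := by
          rw [← hk, map_zpow]
          exact ((Commute.zpow_right (h := hM) k) : Commute M' _).eq
        exact congrArg Units.val h2
    let L : E →ₗ[F] E := Matrix.toLin b b (M' : Matrix (Fin 2) (Fin 2) F)
    have hL : ∀ e x : E, L (e * x) = e * L x := by
      intro e x
      have h2 := congrArg (Matrix.toLin b b) (hcomm e)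
      rw [Matrix.toLin_mul b b b, Matrix.toLin_mul b b b,
        show Matrix.toLin b b (Φ e) = Algebra.lmul F E e by
          show Matrix.toLin b b (Algebra.leftMulMatrix b e) = _
          rw [Algebra.leftMulMatrix_apply, Matrix.toLin_toMatrix]] at h2
      simpa [L] using LinearMap.congr_fun h2 x
    have hM' : (M' : Matrix (Fin 2) (Fin 2) F) = Φ (L 1) := by
      refine (Matrix.toLin b b).injective (LinearMap.ext fun x => ?_)
      show L x = Matrix.toLin b b (Algebra.leftMulMatrix b (L 1)) x
      rw [Algebra.leftMulMatrix_apply, Matrix.toLin_toMatrix]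
      have h3 := hL x 1
      rw [mul_one] at h3
      rw [h3, mul_comm]
      rfl
    have hne : L 1 ≠ 0 := fun h => by
      rw [h, map_zero] at hM'
      exact M'.ne_zero hM'
    obtain ⟨n, hn⟩ := mem_powers_iff_mem_zpowers.2 (hξ (Units.mk0 _ hne))
    refine ⟨n, Units.ext ?_⟩
    have h4 : ξ ^ n = Units.mk0 _ hne := hn
    rw [← map_pow, h4]
    exact hM'

end CfsgLib.Chev.TwD4.Torus
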