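/-
The self-centralising cyclic subgroup of order 21 of ³D₄(2).
-/
import Mathlib
import Cfsg.Agent.Lib.Chev.Twist.D4Torus.Cent
import Cfsg.Agent.Lib.Chev.Twist.D4Torus.Bin

set_option autoImplicit false
set_option maxRecDepth 20000

namespace CfsgLib.Chev.TwD4.Torus

open Cfsg.Lie Bin CfsgLib.Known.ChevSinger

universe v

/-- The exponent of the value of a root at the torus element of order seven. -/
def e7 (s : ℕ) : ℤ := 2 * DataD4.co s 0 + 4 * DataD4.co s 2 + DataD4.co s 3

/-- The long roots. -/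
def longL : List ℕ := [0, 1, 9, 14, 22, 23]

theorem e7_long : ∀ s : Fin 24, (e7 s.val % 7 = 0 ↔ s.val ∈ longL) := by decide +kernel

/-- The stabilising elements of the fixed Weyl group. -/
def aList : List ℕ := [0, 1, 6, 7, 8, 9]

theorem img_stab : ∀ a : Fin 12,
    (∀ s : Fin 24, (e7 (img a.val s.val) - e7 s.val) % 7 = 0) → a.val ∈ aList := by
  decide +kernel

/-- The words as lists of generators. -/
def fixF (a : ℕ) : List (Fin chevD4.rank) :=
  (fixW.getD a []).map fun i => ⟨i % chevD4.rank, Nat.mod_lt _ (by decide +kernel)⟩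

theorem fixF_val : ∀ a ∈ aList, (fixF a).map Fin.val = fixW.getD a [] := by decide +kernel

/-- The roots of a word. -/
def origL (a : ℕ) : List ℕ :=
  (fixF a).flatMap fun i => [chevD4.simple i.val, chevD4.neg (chevD4.simple i.val), chevD4.simple i.val]

/-- A fixed representative of the long simple reflection. -/
def bN1 : List (List ℕ) := [[14], [9], [14]]

/-- A fixed representative of the reflection of the other orbit. -/
def bN0 : List (List ℕ) := [[18, 13, 12], [5, 10, 11], [18, 13, 12]]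

/-- The words as lists of generators of the twisted group. -/
def blkW : ℕ → List (List ℕ)
  | 1 => bN1
  | 6 => bN0 ++ bN1 ++ bN0
  | 7 => bN1 ++ bN0 ++ bN1 ++ bN0
  | 8 => bN0 ++ bN1 ++ bN0 ++ bN1
  | 9 => bN1 ++ bN0 ++ bN1 ++ bN0 ++ bN1
  | _ => []

/-- The roots of the fixed representative. -/
def newL (a : ℕ) : List ℕ := (blkW a).flatten

theorem same_cert : ∀ a ∈ aList, rootsC (newL a) = rootsC (origL a) ∧
    (∀ r ∈ newL a, r ∈ xroots) ∧ (∀ r ∈ origL a, r ∈ xroots) ∧
    ∀ b ∈ blkW a, b = [14] ∨ b = [9] ∨ b = [18, 13, 12] ∨ b = [5, 10, 11] := by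
  decide +kernel

/-- The positive unipotent elements. -/
def uL : List (List ℕ) := [[], [14], [22], [23], [14, 22], [14, 23], [22, 23], [14, 22, 23]]

/-- The element of order three. -/
def sL : List ℕ := [14, 9]

/-- Whether two matrices visibly fail to commute, or the first is a power of the second. -/
def chkW (W S : List ℕ) : Bool :=
  (List.range 28).any (fun j => ap W (ap S (2 ^ j)) % 2 ^ 28 != ap S (ap W (2 ^ j)) % 2 ^ 28) ||
    W == oneC || W == S || W == mulC S S

theorem cent_cert : ∀ a ∈ aList, ∀ x ∈ uL, ∀ y ∈ uL,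
    chkW (rootsC (x ++ newL a ++ y)) (rootsC sL) = true := by
  decide +kernel

theorem sL_cert : mulC (rootsC sL) (mulC (rootsC sL) (rootsC sL)) = oneC ∧
    ∃ j : Fin 28, ap (rootsC sL) (2 ^ j.val) % 2 ^ 28 ≠ ap oneC (2 ^ j.val) % 2 ^ 28 := by
  decide +kernel

theorem vz_inj {m n : ℕ} (h : vz m = vz n) : m % 2 ^ 28 = n % 2 ^ 28 := by
  refine Nat.eq_of_testBit_eq fun i => ?_
  rw [Nat.testBit_mod_two_pow, Nat.testBit_mod_two_pow]
  by_cases hi : i < 28
  · have := congrFun h (eB ⟨i, hi⟩)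
    simp only [vz, Equiv.symm_apply_apply, bz] at this
    revert this
    cases m.testBit i <;> cases n.testBit i <;> simp
  · simp [hi]

variable {K : Type v} [Field K] [Fintype K] {q : ℕ} (C : Ctx K q)

theorem map_xU' (ι : ZMod 2 →+* K) {r : ℕ} (hr : r < chevD4.nroots) (t : ZMod 2) :
    Matrix.GeneralLinearGroup.map ι (xU chevD4 r t) = xU chevD4 r (ι t) := by
  refine Units.ext ?_
  rw [DataD4.facts.xU_val' hr]
  ext a b
  show ι (((xU chevD4 r t : GL chevD4.Idx (ZMod 2)) : Matrix chevD4.Idx chevD4.Idx (ZMod 2)) a b) = _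
  rw [DataD4.facts.xU_val' hr, xR, xR, Matrix.sum_apply, Matrix.sum_apply, map_sum]
  refine Finset.sum_congr rfl fun k _ => ?_
  simp only [Matrix.smul_apply, smul_eq_mul, map_mul, map_pow]
  congr 1
  exact map_intCast ι _

variable (K) in
/-- A list of roots over the field, all with parameter one. -/
noncomputable def rootsK (L : List ℕ) : GL chevD4.Idx K := wU chevD4 (L.map fun r => (r, (1 : K)))

theorem rootsK_append (L M : List ℕ) : rootsK K (L ++ M) = rootsK K L * rootsK K M := by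
  simp [rootsK, wU, List.prod_append]

theorem rootsK_map (ι : ZMod 2 →+* K) : ∀ L : List ℕ, (∀ r ∈ L, r ∈ xroots) →
    Matrix.GeneralLinearGroup.map ι (rootsU L) = rootsK K L := by
  intro L
  induction L with
  | nil => intro _; simp [rootsU, rootsK, wU]
  | cons r L ih =>
    intro h
    have e : rootsU (r :: L) = xU chevD4 r 1 * rootsU L := by simp [rootsU, wU]
    have e' : rootsK K (r :: L) = xU chevD4 r 1 * rootsK K L := by simp [rootsK, wU]
    rw [e, e', map_mul, map_xU' ι (xroots_lt r (h r List.mem_cons_self)), map_one,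
      ih fun s hs => h s (List.mem_cons_of_mem _ hs)]

theorem rootsK_eq (ι : ZMod 2 →+* K) {L M : List ℕ} (hL : ∀ r ∈ L, r ∈ xroots) (hM : ∀ r ∈ M, r ∈ xroots)
    (h : rootsC L = rootsC M) : rootsK K L = rootsK K M := by
  rw [← rootsK_map ι L hL, ← rootsK_map ι M hM,
    show rootsU L = rootsU M from Units.ext (enc_inj (rootsU_enc L hL) (h ▸ rootsU_enc M hM))]

omit [Fintype K] in
theorem mapι_injective (ι : ZMod 2 →+* K) {g h : GL chevD4.Idx (ZMod 2)}
    (e : Matrix.GeneralLinearGroup.map ι g = Matrix.GeneralLinearGroup.map ι h) : g = h :=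
  Units.ext (Matrix.ext fun i j =>
    ι.injective (congrArg (fun x : GL chevD4.Idx K => (x : Matrix chevD4.Idx chevD4.Idx K) i j) e))

include C in
theorem fixed_rootsK (hq2 : q = 2) (bs : List (List ℕ))
    (h : ∀ b ∈ bs, b = [14] ∨ b = [9] ∨ b = [18, 13, 12] ∨ b = [5, 10, 11]) :
    rootsK K bs.flatten ∈ twistedD4 K q := by
  induction bs with
  | nil => simp [rootsK, wU]
  | cons b bs ih =>
    rw [List.flatten_cons, rootsK_append]
    refine Subgroup.mul_mem _ ?_ (ih fun c hc => h c (List.mem_cons_of_mem _ hc))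
    rcases h b List.mem_cons_self with rfl | rfl | rfl | rfl
    · exact C.mem_gen (Or.inl ⟨1, one_pow q, d4p2, by simp, rfl⟩)
    · exact C.mem_gen (Or.inl ⟨1, one_pow q, d4m2, by simp, rfl⟩)
    · have := C.mem_gen (w := [(d4p1, 1), (d4p3, 1 ^ q), (d4p4, 1 ^ (q ^ 2))])
        (Or.inr ⟨1, (d4p1, d4p3, d4p4), by simp, rfl⟩)
      simpa [one_pow, rootsK, d4p1, d4p3, d4p4] using this
    · have := C.mem_gen (w := [(d4m1, 1), (d4m3, 1 ^ q), (d4m4, 1 ^ (q ^ 2))])
        (Or.inr ⟨1, (d4m1, d4m3, d4m4), by simp, rfl⟩)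
      simpa [one_pow, rootsK, d4m1, d4m3, d4m4] using this

theorem chi_tor (hq2 : q = 2) (a : Kˣ) (s : Fin 24) : chiT chevD4 (C.vec a 1) s.val = a ^ e7 s.val := by
  obtain ⟨h0, h1, h2, h3⟩ := cartan_co s
  have h7 := pow_N_eq_one C a
  subst hq2
  rw [chiT, show chevD4.rank = 4 from tables.2.1]
  simp only [Finset.prod_range_succ, Finset.prod_range_zero, one_mul, Ctx.vec, fu_eq_pow, ← pow_mul,
    one_zpow, mul_one]
  simp only [← zpow_natCast a, ← zpow_mul, ← zpow_add]
  push_cast
  rw [h0, h2, h3, e7, show (2 * DataD4.co s.val 0 - DataD4.co s.val 1) +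
    2 * (-DataD4.co s.val 1 + 2 * DataD4.co s.val 2) + 4 * (-DataD4.co s.val 1 + 2 * DataD4.co s.val 3) =
    (2 * DataD4.co s.val 0 + 4 * DataD4.co s.val 2 + DataD4.co s.val 3) +
      ((2 : ℤ) * 2 * 2 - 1) * (DataD4.co s.val 3 - DataD4.co s.val 1) by ring, zpow_add a, zpow_mul]
  norm_num at h7 ⊢
  norm_cast at h7 ⊢
  simp [h7]

/-- The torus elements as a homomorphism. -/
noncomputable def torHom : Kˣ →* GL chevD4.Idx K := MonoidHom.mk' (tor C) fun a b => by
  rw [tor, tor, tor, ← DataD4.facts.hT_mul]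
  refine DataD4.facts.hT_congr fun i hi => ?_
  have hi4 : i < 4 := hi
  interval_cases i <;> simp [Ctx.vec]

theorem torHom_apply (a : Kˣ) : torHom C a = tor C a := rfl

theorem tor_comm_long (hq2 : q = 2) (a : Kˣ) {r : ℕ} (hr : r ∈ longL) (t : K) :
    Commute (tor C a) (xU chevD4 r t) := by
  have hr24 : r < 24 := by
    revert hr
    revert r
    decide
  have h := DataD4.facts.hT_conj_xU (C.vec a 1) (r := r) (by rw [tables.1]; exact hr24) t
  have e : chiT chevD4 (C.vec a 1) r = 1 := by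
    have he := Int.dvd_of_emod_eq_zero ((e7_long ⟨r, hr24⟩).2 hr)
    obtain ⟨c, hc⟩ := he
    rw [chi_tor C hq2 a ⟨r, hr24⟩, hc, zpow_mul,
      show (7 : ℤ) = (q : ℤ) * q * q - 1 by rw [hq2]; norm_num, pow_N_eq_one C, one_zpow]
  rw [chiT] at e
  rw [e, Units.val_one, one_mul] at h
  exact mul_inv_eq_iff_eq_mul.1 h

theorem tor_comm_rootsK (hq2 : q = 2) (a : Kˣ) : ∀ L : List ℕ, (∀ r ∈ L, r ∈ longL) →
    Commute (tor C a) (rootsK K L) := by
  intro L
  induction L with
  | nil => intro _; simp [rootsK, wU]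
  | cons r L ih =>
    intro h
    rw [← List.singleton_append, rootsK_append]
    refine Commute.mul_right ?_ (ih fun s hs => h s (List.mem_cons_of_mem _ hs))
    simpa [rootsK, wU] using tor_comm_long C hq2 a (h r List.mem_cons_self) 1

theorem u_shape (hq2 : q = 2) {A : Kˣ} (hA : orderOf A = 7) {u : GL chevD4.Idx K} (hf : u ∈ fixS C.σ)
    (hu : u ∈ rootClosure chevD4 K (chevD4.nroots / 2 ≤ ·))
    (hc : hT chevD4 (C.vec A 1) * u * (hT chevD4 (C.vec A 1))⁻¹ = u) :
    ∃ L ∈ uL, u = rootsK K L := by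
  have hF := DataD4.facts
  have hn24 := tables.1
  rw [hT_eq_dU] at hc
  obtain ⟨t, hu', ht⟩ := cent_pos hF C.sys.sig.hC (χ := chiT chevD4 (C.vec A 1)) (hF.isWeight_hT _) hu hc
  have hz : ∀ r, 12 ≤ r → r < 24 → r ≠ 14 → r ≠ 22 → r ≠ 23 → xU chevD4 r (t r) = 1 := by
    intro r h1 h2 h14 h22 h23
    rw [ht r (by omega) (by omega) ?_, hF.xU_zero (by omega)]
    rw [chi_tor C hq2 A ⟨r, h2⟩, Ne, ← orderOf_dvd_iff_zpow_eq_one, hA]
    intro hd
    have := (e7_long ⟨r, h2⟩).1 (Int.emod_eq_zero_of_dvd hd)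
    simp only [longL, List.mem_cons, List.not_mem_nil, or_false] at this
    omega
  have e : u = xU chevD4 14 (t 14) * xU chevD4 22 (t 22) * xU chevD4 23 (t 23) := by
    rw [hu', show chevD4.nroots / 2 = 12 by rw [hn24]]
    simp [List.range'_succ, wU, hz, mul_assoc]
  have hr : ∀ r ∈ [14, 22, 23], parD4.rho r = r ∧ parD4.eps r = 1 := by decide +kernel
  have himg := ((C.img_one (r := 14) (by decide) (hr 14 (by simp)).2 (t 14)).mul
    (C.img_one (r := 22) (by decide) (hr 22 (by simp)).2 (t 22))).mul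
    (C.img_one (r := 23) (by decide) (hr 23 (by simp)).2 (t 23))
  rw [(hr 14 (by simp)).1, (hr 22 (by simp)).1, (hr 23 (by simp)).1] at himg
  have e' := himg.unique (e ▸ hf)
  have := hF.coords_unique C.sig.hC (L := [14, 22, 23]) (by decide +kernel)
    (ts := [C.f (t 14), C.f (t 22), C.f (t 23)]) (ts' := [t 14, t 22, t 23]) rfl rfl
    (by simpa [wU, mul_assoc] using e')
  simp only [List.cons.injEq, and_true, C.hf, hq2] at this
  have h01 : ∀ x : K, x ^ 2 = x → x = 0 ∨ x = 1 := fun x hx => by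
    rcases eq_or_ne x 0 with h | h
    · exact Or.inl h
    · exact Or.inr (mul_left_cancel₀ h (by rw [mul_one, ← sq, hx]))
  have x0 := fun r (hr : r < 24) => hF.xU_zero (F := K) (r := r) (by omega)
  rcases h01 _ this.1 with a | a <;> rcases h01 _ this.2.1 with b | b <;>
    rcases h01 _ this.2.2 with c | c <;> rw [e, a, b, c]
  · exact ⟨[], by simp [uL], by simp [rootsK, wU, x0]⟩
  · exact ⟨[23], by simp [uL], by simp [rootsK, wU, x0]⟩
  · exact ⟨[22], by simp [uL], by simp [rootsK, wU, x0]⟩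
  · exact ⟨[22, 23], by simp [uL], by simp [rootsK, wU, x0]⟩
  · exact ⟨[14], by simp [uL], by simp [rootsK, wU, x0]⟩
  · exact ⟨[14, 23], by simp [uL], by simp [rootsK, wU, x0]⟩
  · exact ⟨[14, 22], by simp [uL], by simp [rootsK, wU, x0]⟩
  · exact ⟨[14, 22, 23], by simp [uL], by simp [rootsK, wU, x0, mul_assoc]⟩

theorem uL_ok : ∀ L ∈ uL, ∀ r ∈ L, r ∈ longL ∧ r ∈ xroots := by decide

theorem sL_ok : ∀ r ∈ sL, r ∈ longL ∧ r ∈ xroots := by decide

include C in
/-- The statement for two. -/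
theorem two_case (hq2 : q = 2) : ∃ h : ↥(twistedD4 K q), orderOf h = (q ^ 3 - 1) * (q + 1) ∧
    ∀ g : ↥(twistedD4 K q), g * h = h * g → g ∈ Subgroup.zpowers h := by
  have hF := DataD4.facts
  classical
  have h2 : ((2 : ℕ) : K) = 0 := by
    have := FiniteField.cast_card_eq_zero K
    rw [C.card, hq2] at this
    push_cast at this
    refine (pow_eq_zero_iff (n := 3) (by norm_num)).1 ?_
    push_cast
    linear_combination this
  haveI : CharP K 2 := (CharP.charP_iff_prime_eq_zero Nat.prime_two).2 h2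
  let ι : ZMod 2 →+* K := ZMod.castHom (dvd_refl 2) K
  have hcard : Nat.card Kˣ = 7 := by
    rw [Nat.card_units, Nat.card_eq_fintype_card, C.card, hq2]
    rfl
  obtain ⟨A, hAgen⟩ := IsCyclic.exists_generator (α := Kˣ)
  have hA : orderOf A = 7 := by rw [orderOf_eq_card_of_forall_mem_zpowers hAgen, hcard]
  set T := tor C A with hT'
  set s := rootsK K sL with hs'
  have hsG : s ∈ twistedD4 K q := fixed_rootsK C hq2 [[14], [9]] (by simp)
  have hTG : T ∈ twistedD4 K q := C.vec_mem A (one_pow (q - 1))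
  have hTs : Commute T s := tor_comm_rootsK C hq2 A sL fun r hr => (sL_ok r hr).1
  have hT7 : orderOf T = 7 := by
    haveI : Fact (Nat.Prime 7) := ⟨by norm_num⟩
    refine orderOf_eq_prime ?_ fun h1 => ?_
    · rw [hT', ← torHom_apply, ← map_pow, ← hA, pow_orderOf_eq_one, map_one]
    · have h18 : d4p1 < chevD4.nroots := by decide +kernel
      have h := hF.hT_conj_xU (C.vec A 1) h18 (1 : K)
      rw [← tor, ← hT', h1, one_mul, inv_one, mul_one, mul_one] at h
      have e := chi_tor C hq2 A ⟨d4p1, by decide⟩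
      rw [chiT] at e
      rw [e] at h
      have h' : A ^ e7 d4p1 = 1 := Units.ext (hF.xU_left_inj h18 h.symm)
      rw [← orderOf_dvd_iff_zpow_eq_one, hA] at h'
      revert h'
      decide +kernel
  have hs3 : orderOf s = 3 := by
    haveI : Fact (Nat.Prime 3) := ⟨by norm_num⟩
    have hx := fun r hr => (sL_ok r hr).2
    obtain ⟨c1, j0, c2⟩ := sL_cert
    have he := rootsU_enc sL hx
    refine orderOf_eq_prime ?_ fun h1 => ?_
    · rw [hs', ← rootsK_map ι sL hx, ← map_pow, show (rootsU sL) ^ 3 = 1 from Units.ext (enc_inj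
        (A := oneC) (by rw [Units.val_pow_eq_pow_val, pow_succ', sq]; exact c1 ▸ enc_mul he (enc_mul he he))
        (by simpa using enc_one)), map_one]
    · rw [hs', ← rootsK_map ι sL hx] at h1
      have h1' : rootsU sL = 1 := mapι_injective ι (h1.trans (map_one _).symm)
      rw [h1'] at he
      refine c2 (vz_inj ?_)
      rw [← enc_mulVec he, ← enc_mulVec enc_one, Units.val_one]
  have hord : orderOf (T * s) = 21 := by
    rw [hTs.orderOf_mul_eq_mul_orderOf_of_coprime (by rw [hT7, hs3]; decide), hT7, hs3]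
  refine ⟨⟨T * s, Subgroup.mul_mem _ hTG hsG⟩, ?_, ?_⟩
  · rw [← Subgroup.orderOf_coe, hord, hq2]
    norm_num
  rintro ⟨g, hg⟩ hgh
  have hgh' : Commute g (T * s) := congrArg Subtype.val hgh
  have hp : ∀ n, (T * s) ^ n = T ^ (n % 7) * s ^ (n % 3) := fun n => by
    rw [hTs.mul_pow, ← hT7, ← hs3, pow_mod_orderOf, pow_mod_orderOf]
  have hgT : Commute g T := by simpa [hp] using hgh'.pow_right 15
  have hgs : Commute g s := by simpa [hp] using hgh'.pow_right 7
  obtain ⟨u1, k, n, u, w, ⟨h1, h1', h1c⟩, ⟨hk, hk'⟩, ⟨hn, hn', hw, a, ha⟩, ⟨h2, h2', h2c⟩, rfl, hχ⟩ :=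
    decompose C (C.vec A 1) hg hgT.eq.symm
  obtain ⟨x, hx, rfl⟩ := u_shape C hq2 hA h1 h1' h1c
  obtain ⟨y, hy, rfl⟩ := u_shape C hq2 hA h2 h2' h2c
  have hn24 := tables.1
  have haL : a.val ∈ aList := by
    refine img_stab a fun r => ?_
    have h := hχ ⟨r.val, by rw [hn24]; exact r.isLt⟩
    have hlt : img a.val r.val < 24 := by
      have := (w ⟨r.val, by rw [hn24]; exact r.isLt⟩).isLt
      rw [ha] at this
      simpa [hn24] using this
    rw [ha, chi_tor C hq2 A r, chi_tor C hq2 A ⟨img a.val r.val, hlt⟩] at h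
    refine Int.emod_eq_zero_of_dvd ?_
    have h7 : (7 : ℤ) = (orderOf A : ℤ) := by rw [hA]; norm_num
    rw [h7]
    exact orderOf_dvd_iff_zpow_eq_one.2 (by rw [zpow_sub, ← h, mul_inv_cancel])
  obtain ⟨cA, cN, cO, cB⟩ := same_cert a.val haL
  set n0 := rootsK K (newL a.val) with hn0'
  have hn0G : n0 ∈ twistedD4 K q := fixed_rootsK C hq2 _ cB
  have hn0W : n0 = nW chevD4 K (fixF a.val) := by
    rw [hn0', rootsK_eq ι cN cO cA, origL]
    generalize fixF a.val = l
    induction l with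
    | nil => simp [rootsK, wU, nW]
    | cons i l ih =>
      rw [List.flatMap_cons, rootsK_append, ih]
      simp [rootsK, wU, nW, nS, nU, CharTwo.neg_eq, mul_assoc]
  have hw' : w = sW chevD4 (fixF a.val) := Equiv.ext fun r => Fin.ext (by
    rw [ha, hF.sW_val_foldr, fixF_val a.val haL]; rfl)
  have hn0P : PermAct n0 w := by rw [hn0W, hw']; exact hF.permAct_nW _
  have hn0N : n0 ∈ chevD4.monomialSubgroup K := by rw [hn0W]; exact hF.nW_mem _
  have hd := monomial_conj_diag hF hn0N (hF.same_perm hn0N hn' hn0P hw)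
  rw [show n0 * (n0⁻¹ * n) * n0⁻¹ = n * n0⁻¹ by group] at hd
  obtain ⟨a', b, hb, hD⟩ := C.exists_vec (Subgroup.mul_mem _ hk' hd)
    (C.sys.le_fix (Subgroup.mul_mem _ hk (Subgroup.mul_mem _ hn (Subgroup.inv_mem _ hn0G))))
  have hb1 : b = 1 := by
    simpa [hq2] using hb
  rw [hb1, ← tor] at hD
  obtain ⟨i, rfl⟩ := Subgroup.mem_zpowers_iff.1 (hAgen a')
  rw [← torHom_apply, map_zpow, torHom_apply, ← hT'] at hD
  have hxl := fun r hr => (uL_ok x hx r hr).1
  have hDx : Commute (T ^ i) (rootsK K x) := (tor_comm_rootsK C hq2 A x hxl).zpow_left i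
  have hge : rootsK K x * k * n * rootsK K y = T ^ i * rootsK K (x ++ newL a.val ++ y) := by
    rw [rootsK_append, rootsK_append, ← hn0', ← mul_assoc, ← mul_assoc, hDx.eq, ← hD]
    group
  have hW : Commute (rootsK K (x ++ newL a.val ++ y)) s := by
    have h := hgs
    rw [hge] at h
    have := ((hTs.zpow_left i).inv_left).mul_left h
    rwa [inv_mul_cancel_left] at this
  set L := x ++ newL a.val ++ y with hL'
  have hL : ∀ r ∈ L, r ∈ xroots := fun r hr => by
    simp only [hL', List.mem_append] at hr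
    rcases hr with (h | h) | h
    exacts [(uL_ok x hx r h).2, cN r h, (uL_ok y hy r h).2]
  have hS := fun r hr => (sL_ok r hr).2
  have eW := rootsU_enc L hL
  have eS := rootsU_enc sL hS
  have hW' : rootsU L * rootsU sL = rootsU sL * rootsU L := mapι_injective ι (by
    rw [map_mul, map_mul, rootsK_map ι L hL, rootsK_map ι sL hS]
    exact hW.eq)
  have hcert := cent_cert a.val haL x hx y hy
  rw [← hL'] at hcert
  simp only [chkW, Bool.or_eq_true, List.any_eq_true, bne_iff_ne, beq_iff_eq] at hcert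
  have hmem : rootsK K L ∈ Subgroup.zpowers (T * s) := by
    have hsz : s ∈ Subgroup.zpowers (T * s) := ⟨7, by simp [zpow_ofNat, hp]⟩
    rcases hcert with (((⟨j, -, hj⟩ | e) | e) | e)
    · refine absurd (vz_inj ?_) hj
      rw [← enc_mulVec eW, ← enc_mulVec eS, ← enc_mulVec eS, ← enc_mulVec eW, Matrix.mulVec_mulVec,
        Matrix.mulVec_mulVec, ← Units.val_mul, hW', Units.val_mul]
    · rw [← rootsK_map ι L hL, show rootsU L = 1 from Units.ext (enc_inj eW (by simpa [e] using enc_one)),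
        map_one]
      exact one_mem _
    · rw [rootsK_eq ι hL hS e]; exact hsz
    · rw [← rootsK_map ι L hL, show rootsU L = rootsU sL * rootsU sL from
        Units.ext (enc_inj eW (by simpa [e] using enc_mul eS eS)), map_mul, rootsK_map ι sL hS]
      exact Subgroup.mul_mem _ hsz hsz
  have hTz : T ∈ Subgroup.zpowers (T * s) := ⟨15, by simp [zpow_ofNat, hp]⟩
  have hgz : rootsK K x * k * n * rootsK K y ∈ Subgroup.zpowers (T * s) := by
    rw [hge]
    exact Subgroup.mul_mem _ (Subgroup.zpow_mem _ hTz i) hmem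
  obtain ⟨j, hj⟩ := hgz
  exact ⟨j, Subtype.ext (by simpa using hj)⟩

end CfsgLib.Chev.TwD4.Torus
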