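/-
The self-centralising cyclic torus of order (q³ - 1)(q + 1) of ³D₄(q).
-/
import Mathlib
import Cfsg.Agent.Lib.Chev.Twist.D4Torus.Singer
import Cfsg.Agent.Lib.Chev.Twist.D4Torus.Two

set_option autoImplicit false

namespace CfsgLib.Chev.TwD4.Torus

open Cfsg.Lie CfsgLib.Known.ChevSinger

universe v

variable {K : Type v} [Field K] [Fintype K] {q : ℕ} (C : Ctx K q)

/-- A generator with prescribed norm. -/
theorem exists_gen (d : Kˣ) (hd : orderOf d = q - 1) :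
    ∃ A : Kˣ, orderOf A = q ^ 3 - 1 ∧ (∀ x, x ∈ Subgroup.zpowers A) ∧ nrm C A = d := by
  classical
  have hq := C.q_gt
  have hcard : Nat.card Kˣ = q ^ 3 - 1 := by
    rw [Nat.card_units, Nat.card_eq_fintype_card, C.card]
  have hsplit : q ^ 3 - 1 = (q - 1) * (q ^ 2 + q + 1) := by
    obtain ⟨k, rfl⟩ : ∃ k, q = k + 1 := ⟨q - 1, by omega⟩
    rw [Nat.add_sub_cancel, Nat.sub_eq_iff_eq_add (Nat.one_le_pow _ _ (by omega))]
    ring
  obtain ⟨A0, hA0⟩ := IsCyclic.exists_generator (α := Kˣ)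
  have hord : orderOf A0 = q ^ 3 - 1 := by rw [orderOf_eq_card_of_forall_mem_zpowers hA0, hcard]
  obtain ⟨k, hk⟩ := (mem_powers_iff_mem_zpowers (x := A0)).2 (hA0 d)
  simp only at hk
  have h1 : A0 ^ (k * (q - 1)) = 1 := by rw [pow_mul, hk, ← hd, pow_orderOf_eq_one]
  rw [← orderOf_dvd_iff_pow_eq_one, hord, hsplit, mul_comm k] at h1
  obtain ⟨i, rfl⟩ := Nat.dvd_of_mul_dvd_mul_left (by omega : 0 < q - 1) h1
  rw [pow_mul, ← nrm_eq_pow C] at hk
  have hN0 : orderOf (nrm C A0) = q - 1 := by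
    rw [nrm_eq_pow, orderOf_pow' _ (by positivity), hord, hsplit, Nat.gcd_mul_left_left]
    exact Nat.mul_div_cancel _ (by positivity)
  have hcop : Nat.Coprime i (q - 1) := by
    have := hd
    rw [← hk, orderOf_pow, hN0] at this
    rcases Nat.eq_zero_or_pos (Nat.gcd (q - 1) i) with h0 | h0
    · simp [h0] at this
      omega
    · have h2 := Nat.div_mul_cancel (Nat.gcd_dvd_left (q - 1) i)
      rw [this] at h2
      exact (Nat.coprime_comm.1 (by
        rw [Nat.coprime_iff_gcd_eq_one]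
        exact (mul_eq_left₀ (by omega : q - 1 ≠ 0)).1 h2))
  haveI : NeZero (q ^ 3 - 1) := ⟨by rw [← hcard]; exact Nat.card_pos.ne'⟩
  have hdvd : q - 1 ∣ q ^ 3 - 1 := Dvd.intro _ hsplit.symm
  obtain ⟨u, hu⟩ := ZMod.unitsMap_surjective hdvd (ZMod.unitOfCoprime i hcop)
  have hmod : (u : ZMod (q ^ 3 - 1)).val ≡ i [MOD q - 1] := by
    rw [← ZMod.natCast_eq_natCast_iff]
    have := congrArg Units.val hu
    rw [ZMod.unitsMap_val, ZMod.coe_unitOfCoprime] at this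
    rw [← this, ZMod.natCast_val]
  have hcu : Nat.Coprime (u : ZMod (q ^ 3 - 1)).val (q ^ 3 - 1) := ZMod.val_coe_unit_coprime u
  refine ⟨A0 ^ (u : ZMod (q ^ 3 - 1)).val, ?_, ?_, ?_⟩
  · rw [Nat.Coprime.orderOf_pow (by rw [hord]; exact hcu.symm), hord]
  · have ho : orderOf (A0 ^ (u : ZMod (q ^ 3 - 1)).val) = Nat.card Kˣ := by
      rw [Nat.Coprime.orderOf_pow (by rw [hord]; exact hcu.symm), hord, hcard]
    intro x
    rw [show Subgroup.zpowers (A0 ^ (u : ZMod (q ^ 3 - 1)).val) = ⊤ from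
      Subgroup.eq_top_of_card_eq _ (by rw [Nat.card_zpowers, ho])]
    trivial
  · rw [map_pow, ← hk]
    exact pow_eq_pow_iff_modEq.2 (hN0 ▸ hmod)

include C in
/-- The self-centralising element. -/
theorem exists_elem : ∃ h : ↥(twistedD4 K q), orderOf h = (q ^ 3 - 1) * (q + 1) ∧
    ∀ g : ↥(twistedD4 K q), g * h = h * g → g ∈ Subgroup.zpowers h := by
  classical
  by_cases hq2 : q = 2
  · exact two_case C hq2
  have hq : 3 ≤ q := by have := C.q_gt; omega
  obtain ⟨M, hM1, hM2, hM3, hM4⟩ := exists_singer (Fq C)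
  rw [card_Fq C] at hM1 hM2 hM3
  set e : (Fq C)ˣ →* Kˣ := Units.map (Fq C).subtype.toMonoidHom with he
  set d := e (Matrix.GeneralLinearGroup.det M) with hd'
  have hd : orderOf d = q - 1 := by
    rw [hd', orderOf_injective e (Units.map_injective Subtype.val_injective), hM2]
  obtain ⟨A, hA, hgen, hN⟩ := exists_gen C d hd
  obtain ⟨φ, hφ⟩ := exists_phi K
  let p : pairGrp C := ⟨(A, M), hN⟩
  have hinj := psiHom_injective C φ hφ
  have hop : orderOf p = (q ^ 3 - 1) * (q + 1) := by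
    rw [← Subgroup.orderOf_coe, Prod.orderOf, hA, hM1]
    obtain ⟨k, rfl⟩ : ∃ k, q = k + 1 := ⟨q - 1, by omega⟩
    have e3 : (k + 1) ^ 3 - 1 = k * (k ^ 2 + 3 * k + 3) := by
      rw [Nat.sub_eq_iff_eq_add (Nat.one_le_pow _ _ (by omega))]; ring
    have e2 : (k + 1) ^ 2 - 1 = k * (k + 2) := by
      rw [Nat.sub_eq_iff_eq_add (Nat.one_le_pow _ _ (by omega))]; ring
    have hc : Nat.Coprime (k ^ 2 + 3 * k + 3) (k + 2) := by
      rw [show k ^ 2 + 3 * k + 3 = 1 + (k + 1) * (k + 2) by ring, Nat.coprime_add_mul_right_left]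
      exact Nat.coprime_one_left _
    rw [e3, e2, Nat.lcm_mul_left, hc.lcm_eq_mul]
    ring
  refine ⟨⟨psiHom C φ hφ p, psiHom_mem C φ hφ p⟩, ?_, ?_⟩
  · rw [← Subgroup.orderOf_coe, orderOf_injective _ hinj, hop]
  rintro ⟨g, hg⟩ hgh
  have hgh' : Commute g (psiHom C φ hφ p) := congrArg Subtype.val hgh
  have hd1 : d ^ (q - 1) = 1 := by rw [← hd, pow_orderOf_eq_one]
  have hz : psiHom C φ hφ p ^ (q + 1) = hT chevD4 (zc C A) := by
    rw [← map_pow]
    show tor C (p ^ (q + 1)).1.1 * φ (sPart C (p ^ (q + 1))) = _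
    have hp1 : (p ^ (q + 1)).1.1 = A ^ (q + 1) := rfl
    have hp2 : ((p ^ (q + 1)).1.2 : Matrix (Fin 2) (Fin 2) (Fq C)) =
      ((Matrix.GeneralLinearGroup.det M : (Fq C)ˣ) : Fq C) • 1 := hM3
    have hNp : nrm C (A ^ (q + 1)) = d * d := by
      rw [map_pow, hN, show q + 1 = (q - 1) + 2 by omega, pow_add, hd1, one_mul, sq]
    have hdv : (((Matrix.GeneralLinearGroup.det M : (Fq C)ˣ) : Fq C) : K) = (d : K) := rfl
    rw [phi_diag C φ hφ d (sPart C (p ^ (q + 1))) ?_, tor, ← DataD4.facts.hT_mul, hp1]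
    · refine DataD4.facts.hT_congr fun i hi => ?_
      have hi4 : i < 4 := hi
      interval_cases i <;> simp [Ctx.vec, zc, hN]
    · simp only [sPart]
      rw [hp1, hp2, hNp]
      ext i j
      fin_cases i <;> fin_cases j <;> simp [show (((M : Matrix (Fin 2) (Fin 2) (Fq C)).det : Fq C) : K) = (d : K) from hdv, Units.val_inv_eq_inv_val, mul_assoc]
  have hgc := hgh'.pow_right (q + 1)
  rw [hz] at hgc
  obtain ⟨p', hp'⟩ := cent_le_range C φ hφ hq hA hg hgc.eq.symm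
  subst hp'
  have hcomm : p' * p = p * p' := hinj (by rw [map_mul, map_mul]; exact hgh'.eq)
  have hM' : p'.1.2 * M = M * p'.1.2 := congrArg (fun x : pairGrp C => x.1.2) hcomm
  obtain ⟨i, hi⟩ := hM4 _ hM'
  obtain ⟨m, hm⟩ := Subgroup.mem_zpowers_iff.1 (hgen p'.1.1)
  have hNm : d ^ m = d ^ (i : ℤ) := by
    have h := (mem_pairGrp C).1 p'.2
    rw [← hm, hi, map_zpow, map_pow, map_pow, hN] at h
    rw [zpow_natCast]
    exact h
  obtain ⟨j, hj⟩ : ((q : ℤ) - 1) ∣ m - i := by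
    have h1 : d ^ (m - (i : ℤ)) = 1 := by rw [zpow_sub, hNm, mul_inv_cancel]
    rw [← orderOf_dvd_iff_zpow_eq_one, hd, Nat.cast_sub (by omega : 1 ≤ q), Nat.cast_one] at h1
    exact h1
  refine ⟨(i : ℤ) - ((q : ℤ) * q - 1) * q * j, Subtype.ext ?_⟩
  rw [Subgroup.coe_zpow]
  show psiHom C φ hφ p ^ _ = psiHom C φ hφ p'
  rw [← map_zpow]
  congr 1
  refine Subtype.ext (Prod.ext ?_ ?_)
  · rw [Subgroup.coe_zpow, Prod.pow_fst]
    show A ^ _ = p'.1.1
    rw [← hm, show (i : ℤ) - ((q : ℤ) * q - 1) * q * j = m + ((q : ℤ) * q * q - 1) * (-j) by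
      rw [show m = i + ((q : ℤ) - 1) * j by rw [← hj]; ring]; ring,
      zpow_add, zpow_mul, pow_N_eq_one C, one_zpow, mul_one]
  · rw [Subgroup.coe_zpow, Prod.pow_snd]
    show M ^ _ = p'.1.2
    have hMq : M ^ ((q : ℤ) * q - 1) = 1 := by
      have h1 : M ^ (q ^ 2 - 1) = 1 := by rw [← hM1, pow_orderOf_eq_one]
      rw [← zpow_natCast, Nat.cast_sub (Nat.one_le_pow _ _ (by omega))] at h1
      push_cast at h1
      rwa [sq] at h1
    rw [sub_eq_add_neg, zpow_add, zpow_natCast, ← mul_neg, zpow_mul, zpow_mul, hMq, one_zpow, one_zpow,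
      mul_one, hi]

end CfsgLib.Chev.TwD4.Torus
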